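import Groth.Agent.FilDLib.Null
import Mathlib.Algebra.Homology.HomotopyCategory.Pretriangulated
import Mathlib.Algebra.Homology.Refinements
import Mathlib.Algebra.Homology.Embedding.CochainComplex

/-!
# Hom into bounded below filtered injective complexes inverts filtered quasi-isomorphisms
-/

universe v u

open CategoryTheory CategoryTheory.Limits Opposite Pretriangulated

namespace Groth.Agent.FilDLib

variable {A : Type u} [Category.{v} A] [Abelian A]

open HomologicalComplex CochainComplex in
/-- The mapping cone of a quasi-isomorphism is exact. -/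
lemma exactAt_mappingCone_of_quasiIso {K L : CochainComplex A ℤ} (φ : K ⟶ L) [QuasiIso φ]
    (n : ℤ) : (mappingCone φ).ExactAt n := by
  rw [HomologicalComplex.exactAt_iff_exact_up_to_refinements _ (n - 1) n (n + 1) (by simp)
    (by simp)]
  intro T c hc
  set x := c ≫ (mappingCone.fst φ).1.v n (n + 1) rfl with hx
  set y := c ≫ (mappingCone.snd φ).v n n (add_zero n) with hy
  have h1 : x ≫ K.d (n + 1) (n + 2) = 0 := by
    have := congrArg (· ≫ (mappingCone.fst φ).1.v (n + 1) (n + 2) (by omega)) hc
    simpa [mappingCone.d_fst_v φ n (n + 1) (n + 2) rfl (by omega), hx] using this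
  have h2 : x ≫ φ.f (n + 1) + y ≫ L.d n (n + 1) = 0 := by
    have := congrArg (· ≫ (mappingCone.snd φ).v (n + 1) (n + 1) (add_zero _)) hc
    simpa [mappingCone.d_snd_v φ n (n + 1) rfl, hx, hy] using this
  have hm : Mono (HomologicalComplex.homologyMap φ (n + 1)) := inferInstance
  rw [HomologicalComplex.mono_homologyMap_iff_up_to_refinements φ n (n + 1) (n + 2) (by simp)
    (by simp; omega)] at hm
  obtain ⟨T₁, π₁, hπ₁, x', hx'⟩ := hm x h1 (-y)
    (by rw [Preadditive.neg_comp]; exact eq_neg_of_add_eq_zero_left h2)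
  have he : Epi (HomologicalComplex.homologyMap φ n) := inferInstance
  rw [HomologicalComplex.epi_homologyMap_iff_up_to_refinements φ (n - 1) n (n + 1) (by simp)
    (by simp)] at he
  obtain ⟨T₂, π₂, hπ₂, z, hz, w, hw⟩ := he (π₁ ≫ y + x' ≫ φ.f n) (by
    simp only [Preadditive.add_comp, Category.assoc, φ.comm]
    rw [← Category.assoc x', ← hx', Category.assoc, ← Category.assoc c, ← hy,
      Category.assoc π₁ x, ← Preadditive.comp_add, add_comm (y ≫ _), h2,
      comp_zero])
  refine ⟨T₂, π₂ ≫ π₁, by infer_instance,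
    (z - π₂ ≫ x') ≫ (mappingCone.inl φ).v n (n - 1) (by omega) + w ≫ (mappingCone.inr φ).f (n - 1),
    ?_⟩
  rw [mappingCone.ext_to_iff φ n (n + 1) rfl]
  simp only [Preadditive.add_comp, Category.assoc, mappingCone.inr_f_d_assoc,
    mappingCone.inl_v_d_assoc φ n (n - 1) (n + 1) (by omega) (by omega), Preadditive.sub_comp]
  constructor
  · simp [← hx, hx', hz, reassoc_of% hz]
  · simp only [← hy]
    simp only [Preadditive.comp_add, Category.assoc, reassoc_of% hw] at hw ⊢
    simp only [mappingCone.inl_v_snd_v, mappingCone.inr_f_snd_v, comp_zero, sub_zero,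
      Category.comp_id]
    rw [sub_add_eq_add_sub, eq_sub_iff_add_eq]
    exact hw

variable {K L I : CochainComplex (FilD.FilF A) ℤ}

lemma isFilteredAcyclic_mappingCone (α : K ⟶ L) (hα : FilD.IsFilteredQuasiIso α) :
    FilD.IsFilteredAcyclic (CochainComplex.mappingCone α) := fun p n => by
  haveI := hα p
  exact (exactAt_mappingCone_of_quasiIso ((FilD.grCx p).map α) n).of_iso
    (CochainComplex.mappingCone.mapHomologicalComplexIso α (FilD.grF A p)).symm

/-- Every morphism from a filtered acyclic complex to a shift of `I` vanishes in the homotopy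
category. -/
lemma eq_zero_of_isFilteredAcyclic {C : CochainComplex (FilD.FilF A) ℤ}
    (hC : FilD.IsFilteredAcyclic C) (a : ℤ) [I.IsStrictlyGE a]
    (hI : ∀ n, FilD.IsFilteredInjective (I.X n))
    (f : (HomotopyCategory.quotient _ _).obj C ⟶ (HomotopyCategory.quotient _ _).obj I) :
    f = 0 := by
  obtain ⟨φ, rfl⟩ := (HomotopyCategory.quotient _ _).map_surjective f
  obtain ⟨h⟩ := nonempty_homotopy_zero hC a hI φ
  rw [HomotopyCategory.eq_of_homotopy _ _ h, Functor.map_zero]

/-- The same for maps out of the shift by `-1`. -/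
lemma eq_zero_of_shift {C : CochainComplex (FilD.FilF A) ℤ}
    (hC : FilD.IsFilteredAcyclic C) (a : ℤ) [I.IsStrictlyGE a]
    (hI : ∀ n, FilD.IsFilteredInjective (I.X n))
    (f : ((HomotopyCategory.quotient (FilD.FilF A) (ComplexShape.up ℤ)).obj C)⟦(-1 : ℤ)⟧ ⟶
      (HomotopyCategory.quotient (FilD.FilF A) (ComplexShape.up ℤ)).obj I) :
    f = 0 := by
  haveI : (I⟦(1 : ℤ)⟧).IsStrictlyGE (a - 1) := I.isStrictlyGE_shift a 1 (a - 1) (by omega)
  refine (shiftFunctor (HomotopyCategory (FilD.FilF A) (ComplexShape.up ℤ))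
    (1 : ℤ)).map_injective ?_
  rw [Functor.map_zero]
  let e := (shiftFunctorCompIsoId (HomotopyCategory (FilD.FilF A) (ComplexShape.up ℤ)) (-1 : ℤ) 1
    (by omega)).app ((HomotopyCategory.quotient (FilD.FilF A) (ComplexShape.up ℤ)).obj C)
  let e' := ((HomotopyCategory.quotient (FilD.FilF A) (ComplexShape.up ℤ)).commShiftIso
    (1 : ℤ)).app I
  have h0 : e.inv ≫ f⟦(1 : ℤ)⟧' ≫ e'.inv = 0 :=
    eq_zero_of_isFilteredAcyclic (I := I⟦(1 : ℤ)⟧) hC (a - 1) (fun n => hI _) _
  rw [← cancel_epi e.inv, ← cancel_mono e'.inv]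
  simpa using h0

/-- Precomposition with a filtered quasi-isomorphism is bijective on homotopy classes of maps into a
bounded below complex of filtered injective objects. -/
theorem precomp_bijective (I : CochainComplex (FilD.FilF A) ℤ) (a : ℤ) [I.IsStrictlyGE a]
    (hI : ∀ n, FilD.IsFilteredInjective (I.X n)) (α : K ⟶ L) (hα : FilD.IsFilteredQuasiIso α) :
    Function.Bijective (fun β : (HomotopyCategory.quotient (FilD.FilF A) (ComplexShape.up ℤ)).obj L
        ⟶ (HomotopyCategory.quotient (FilD.FilF A) (ComplexShape.up ℤ)).obj I =>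
      (HomotopyCategory.quotient (FilD.FilF A) (ComplexShape.up ℤ)).map α ≫ β) := by
  have hC := isFilteredAcyclic_mappingCone α hα
  have hT := HomotopyCategory.mappingCone_triangleh_distinguished α
  constructor
  · intro β γ h
    rw [← sub_eq_zero]
    obtain ⟨g, hg⟩ := (CochainComplex.mappingCone.triangleh α).yoneda_exact₂ hT (β - γ)
      (by
        change (HomotopyCategory.quotient _ _).map α ≫ (β - γ) = 0
        rw [Preadditive.comp_sub]
        exact sub_eq_zero.2 h)
    refine hg.trans ?_
    rw [show g = 0 from eq_zero_of_isFilteredAcyclic hC a hI g]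
    exact comp_zero
  · intro f
    obtain ⟨g, hg⟩ := (CochainComplex.mappingCone.triangleh α).invRotate.yoneda_exact₂
      (inv_rot_of_distTriang _ hT) f (eq_zero_of_shift hC a hI _)
    exact ⟨g, hg.symm⟩

end Groth.Agent.FilDLib
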