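import Groth.Prelude.Def_FilD
import Mathlib.CategoryTheory.Abelian.Refinements
import Mathlib.CategoryTheory.Limits.FunctorCategory.EpiMono

/-!
# Elementary API for finite filtered objects: transition maps, graded pieces, strictness
-/

universe v u

open CategoryTheory CategoryTheory.Limits Opposite

namespace Groth.Agent.FilDLib

variable {A : Type u} [Category.{v} A] [Abelian A]

/-- The transition map `F q ⟶ F p` for `p ≤ q`. -/
abbrev res (F : ℤᵒᵖ ⥤ A) {p q : ℤ} (h : p ≤ q) : F.obj (op q) ⟶ F.obj (op p) :=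
  F.map (homOfLE h).op

lemma le_succ' (p : ℤ) : p ≤ p + 1 := Int.le_add_one le_rfl

@[simp] lemma res_self (F : ℤᵒᵖ ⥤ A) (p : ℤ) (h : p ≤ p) : res F h = 𝟙 _ := by
  simp [res]

@[reassoc]
lemma res_res (F : ℤᵒᵖ ⥤ A) {p q r : ℤ} (h : p ≤ q) (h' : q ≤ r) :
    res F h' ≫ res F h = res F (h.trans h') := by
  simp only [res, ← F.map_comp, ← op_comp, homOfLE_comp]

@[reassoc]
lemma res_naturality {F G : ℤᵒᵖ ⥤ A} (φ : F ⟶ G) {p q : ℤ} (h : p ≤ q) :
    res F h ≫ φ.app (op p) = φ.app (op q) ≫ res G h :=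
  φ.naturality _

lemma map_eq_res (F : ℤᵒᵖ ⥤ A) {p q : ℤ} (f : op q ⟶ op p) :
    F.map f = res F (leOfHom f.unop) := by
  exact congrArg F.map (Quiver.Hom.unop_inj (Subsingleton.elim _ _))

/-- Natural transformations can be checked on the steps `p+1 → p`. -/
lemma naturality_of_step (F G : ℤᵒᵖ ⥤ A) (f : ∀ p : ℤ, F.obj (op p) ⟶ G.obj (op p))
    (hf : ∀ p : ℤ, res F (le_succ' p) ≫ f p = f (p + 1) ≫ res G (le_succ' p))
    {p q : ℤ} (h : p ≤ q) : res F h ≫ f p = f q ≫ res G h := by
  induction q, h using Int.leInduction with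
  | base => simp
  | succ q hq ih =>
      rw [← res_res F hq (le_succ' q), ← res_res G hq (le_succ' q), Category.assoc, ih,
        ← Category.assoc, hf, Category.assoc]

/-- A natural transformation from its components and their compatibility with the steps. -/
noncomputable def homMk (F G : ℤᵒᵖ ⥤ A) (f : ∀ p : ℤ, F.obj (op p) ⟶ G.obj (op p))
    (hf : ∀ p : ℤ, res F (le_succ' p) ≫ f p = f (p + 1) ≫ res G (le_succ' p)) : F ⟶ G where
  app p := f p.unop
  naturality := by
    rintro ⟨q⟩ ⟨p⟩ g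
    rw [map_eq_res F g, map_eq_res G g]
    exact naturality_of_step F G f hf _

/-! ## graded pieces -/

/-- The projection `F p ⟶ gr^p F`. -/
noncomputable abbrev grπ (F : ℤᵒᵖ ⥤ A) (p : ℤ) : F.obj (op p) ⟶ (FilD.gr A p).obj F :=
  cokernel.π (F.map (FilD.stepHom p))

@[reassoc (attr := simp)]
lemma res_grπ (F : ℤᵒᵖ ⥤ A) (p : ℤ) : res F (le_succ' p) ≫ grπ F p = 0 :=
  cokernel.condition _

@[reassoc]
lemma grπ_naturality {F G : ℤᵒᵖ ⥤ A} (φ : F ⟶ G) (p : ℤ) :
    grπ F p ≫ (FilD.gr A p).map φ = φ.app (op p) ≫ grπ G p :=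
  cokernel.π_desc _ _ _

instance epi_grπ (F : ℤᵒᵖ ⥤ A) (p : ℤ) : Epi (grπ F p) :=
  coequalizer.π_epi

lemma hom_ext_gr {F : ℤᵒᵖ ⥤ A} {p : ℤ} {T : A} {f g : (FilD.gr A p).obj F ⟶ T}
    (h : grπ F p ≫ f = grπ F p ≫ g) : f = g :=
  (cancel_epi (grπ F p)).1 h

/-- Lifting elements of a graded piece up to refinement. -/
lemma exists_lift_gr {F : ℤᵒᵖ ⥤ A} {p : ℤ} {T : A} (t : T ⟶ (FilD.gr A p).obj F) :
    ∃ (T' : A) (π : T' ⟶ T) (_ : Epi π) (x : T' ⟶ F.obj (op p)), π ≫ t = x ≫ grπ F p :=
  surjective_up_to_refinements_of_epi (grπ F p) t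

lemma mono_res (F : FilD.FilF A) {p q : ℤ} (h : p ≤ q) : Mono (res F.obj h) :=
  F.property.1 _

/-- An element of `F p` killed in `gr^p` comes from `F (p+1)`. -/
lemma exists_res_of_grπ_eq_zero (F : FilD.FilF A) {p : ℤ} {T : A} (x : T ⟶ F.obj.obj (op p))
    (hx : x ≫ grπ F.obj p = 0) :
    ∃ y : T ⟶ F.obj.obj (op (p + 1)), y ≫ res F.obj (le_succ' p) = x := by
  haveI : Mono (F.obj.map (FilD.stepHom p)) := F.property.1 _
  exact ⟨Abelian.monoLift (F.obj.map (FilD.stepHom p)) x hx,
    Abelian.monoLift_comp (F.obj.map (FilD.stepHom p)) x hx⟩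

/-- Above the bound a finite filtered object is zero. -/
lemma exists_isZero (F : FilD.FilF A) : ∃ b : ℤ, ∀ p, b ≤ p → IsZero (F.obj.obj (op p)) :=
  F.property.2.1

/-- Below the bound the transition maps are isomorphisms. -/
lemma exists_isIso (F : FilD.FilF A) :
    ∃ a : ℤ, ∀ p q (h : p ≤ q), q ≤ a → IsIso (res F.obj h) := by
  obtain ⟨a, ha⟩ := F.property.2.2
  exact ⟨a, fun p q h hq => ha _ hq⟩

/-- An element of `F q` is determined by its image in `F p`. -/
lemma res_cancel (F : FilD.FilF A) {p q : ℤ} (h : p ≤ q) {T : A} {x y : T ⟶ F.obj.obj (op q)}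
    (hxy : x ≫ res F.obj h = y ≫ res F.obj h) : x = y := by
  haveI := mono_res F h
  exact (cancel_mono _).1 hxy

/-! ## strictness -/

/-- Strictness, elementwise up to refinement. -/
def StrictR {F G : ℤᵒᵖ ⥤ A} (φ : F ⟶ G) : Prop :=
  ∀ (p q : ℤ) (h : p ≤ q) (T : A) (x : T ⟶ F.obj (op p)) (y : T ⟶ G.obj (op q)),
    x ≫ φ.app (op p) = y ≫ res G h →
      ∃ (T' : A) (π : T' ⟶ T) (_ : Epi π) (x' : T' ⟶ F.obj (op q)), x' ≫ φ.app (op q) = π ≫ y

/-- Strictness for one step, elementwise up to refinement. -/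
def StrictStep {F G : ℤᵒᵖ ⥤ A} (φ : F ⟶ G) : Prop :=
  ∀ (p : ℤ) (T : A) (x : T ⟶ F.obj (op p)) (y : T ⟶ G.obj (op (p + 1))),
    x ≫ φ.app (op p) = y ≫ res G (le_succ' p) →
      ∃ (T' : A) (π : T' ⟶ T) (_ : Epi π) (x' : T' ⟶ F.obj (op (p + 1))),
        x' ≫ φ.app (op (p + 1)) = π ≫ y

lemma strictR_of_step {F G : FilD.FilF A} {φ : F ⟶ G} (hφ : StrictStep φ.hom) :
    StrictR φ.hom := by
  intro p q h
  induction q, h using Int.leInduction with
  | base =>
      intro T x y hxy
      exact ⟨T, 𝟙 T, inferInstance, x, by simpa using hxy⟩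
  | succ q hq ih =>
      intro T x y hxy
      obtain ⟨T', π, hπ, x', hx'⟩ := ih T x (y ≫ res G.obj (le_succ' q))
        (by rw [hxy, Category.assoc, res_res])
      obtain ⟨T'', π', hπ', x'', hx''⟩ := hφ q T' x' (π ≫ y) (by rw [hx', Category.assoc])
      exact ⟨T'', π' ≫ π, epi_comp _ _, x'', by rw [hx'', Category.assoc]⟩

/-- The frozen notion of strictness agrees with the elementwise one. -/
theorem isStrict_iff {F G : FilD.FilF A} (φ : F ⟶ G) : FilD.IsStrict φ ↔ StrictR φ.hom := by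
  constructor
  · intro hφ p q h T x y hxy
    haveI := mono_res G h
    have h1 : (imageSubobject (φ.hom.app (op p))).Factors (x ≫ φ.hom.app (op p)) :=
      (imageSubobject _).factors_of_factors_right x
        (Subobject.factors_iff _ _ |>.2 ⟨factorThruImageSubobject _, by simp⟩)
    have h2 : (Subobject.mk (res G.obj h)).Factors (x ≫ φ.hom.app (op p)) :=
      (Subobject.mk_factors_iff _ _).2 ⟨y, hxy.symm⟩
    have h3 : (imageSubobject (φ.hom.app (op p)) ⊓ Subobject.mk (res G.obj h)).Factors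
        (x ≫ φ.hom.app (op p)) :=
      (Subobject.inf_factors _).2 ⟨h1, h2⟩
    have h4 : (imageSubobject (φ.hom.app (op q) ≫ res G.obj h)).Factors
        (x ≫ φ.hom.app (op p)) := by
      rw [show imageSubobject (φ.hom.app (op q) ≫ res G.obj h) =
        imageSubobject (φ.hom.app (op p)) ⊓ Subobject.mk (res G.obj h) from hφ p q h]
      exact h3
    obtain ⟨T', π, hπ, x', hx'⟩ := surjective_up_to_refinements_of_epi
      (factorThruImageSubobject (φ.hom.app (op q) ≫ res G.obj h))
      ((imageSubobject (φ.hom.app (op q) ≫ res G.obj h)).factorThru _ h4)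
    refine ⟨T', π, hπ, x', (cancel_mono (res G.obj h)).1 ?_⟩
    have := congrArg (· ≫ (imageSubobject (φ.hom.app (op q) ≫ res G.obj h)).arrow) hx'
    simp only [Category.assoc, Subobject.factorThru_arrow, imageSubobject_arrow_comp] at this
    rw [Category.assoc, Category.assoc, ← this, hxy]
  · intro hφ p q h
    haveI := mono_res G h
    apply le_antisymm
    · refine le_inf ?_ ?_
      · refine imageSubobject_le _ (res F.obj h ≫ factorThruImageSubobject _) ?_
        rw [Category.assoc, imageSubobject_arrow_comp, res_naturality]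
      · refine imageSubobject_le _ (φ.hom.app (op q) ≫ (Subobject.underlyingIso _).inv) ?_
        simp
    · set S := imageSubobject (φ.hom.app (op p)) ⊓ Subobject.mk (res G.obj h) with hS
      set I := imageSubobject (φ.hom.app (op q) ≫ res G.obj h)
      have hf := (Subobject.inf_factors (X := imageSubobject (φ.hom.app (op p)))
        (Y := Subobject.mk (res G.obj h)) S.arrow).1 (Subobject.factors_self S)
      obtain ⟨T, π, hπ, x, hx⟩ := surjective_up_to_refinements_of_epi
        (factorThruImageSubobject (φ.hom.app (op p)))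
        ((imageSubobject (φ.hom.app (op p))).factorThru S.arrow hf.1)
      obtain ⟨y, hy⟩ : ∃ y : (S : A) ⟶ G.obj.obj (op q), y ≫ res G.obj h = S.arrow :=
        (Subobject.mk_factors_iff (res G.obj h) S.arrow).1 hf.2
      have hxy : x ≫ φ.hom.app (op p) = (π ≫ y) ≫ res G.obj h := by
        have := congrArg (· ≫ (imageSubobject (φ.hom.app (op p))).arrow) hx
        simp only [Category.assoc, Subobject.factorThru_arrow, imageSubobject_arrow_comp] at this
        rw [← this, Category.assoc, hy]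
      obtain ⟨T', π', hπ', x', hx'⟩ := hφ p q h T x (π ≫ y) hxy
      have key : (π' ≫ π) ≫ (S.arrow ≫ cokernel.π I.arrow) = 0 := by
        have h5 : (π' ≫ π) ≫ S.arrow = (x' ≫ factorThruImageSubobject _) ≫ I.arrow := by
          rw [Category.assoc, Category.assoc, imageSubobject_arrow_comp, ← Category.assoc x', hx',
            Category.assoc, Category.assoc, hy]
        rw [← Category.assoc, h5, Category.assoc, cokernel.condition, comp_zero]
      haveI : Epi (π' ≫ π) := epi_comp _ _
      have hz : S.arrow ≫ cokernel.π I.arrow = 0 := by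
        rw [← cancel_epi (π' ≫ π), key, comp_zero]
      exact Subobject.le_of_comm (Abelian.monoLift I.arrow S.arrow hz)
        (Abelian.monoLift_comp _ _ _)

end Groth.Agent.FilDLib
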