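import Groth.Agent.FilDLib.Basic
import Mathlib.CategoryTheory.Limits.Preserves.Shapes.Kernels
import Mathlib.CategoryTheory.Limits.FunctorCategory.Shapes.Products
import Mathlib.CategoryTheory.ObjectProperty.FullSubcategory
import Mathlib.Algebra.Homology.ShortComplex.PreservesHomology
import Mathlib.Algebra.Homology.ShortComplex.ShortExact

/-!
# Exactness of graded pieces versus levelwise exactness and strictness
-/

universe v u

open CategoryTheory CategoryTheory.Limits Opposite

namespace Groth.Agent.FilDLib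

variable {A : Type u} [Category.{v} A] [Abelian A]

/-- Downward induction for a property of filtration indices. -/
lemma descend {P : ℤ → Prop} (hb : ∃ b : ℤ, ∀ p, b ≤ p → P p)
    (hs : ∀ p, P (p + 1) → P p) (p : ℤ) : P p := by
  obtain ⟨b, hb⟩ := hb
  suffices h : ∀ (n : ℕ) (p : ℤ), b ≤ p + n → P p from h (b - p).toNat p (by omega)
  intro n
  induction n with
  | zero => exact fun p hp => hb p (by simpa using hp)
  | succ n ih => exact fun p hp => hs p (ih (p + 1) (by push_cast at hp ⊢; omega))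

/-- Levelwise exactness in the middle, elementwise up to refinement. -/
def LevelExact {X Y Z : ℤᵒᵖ ⥤ A} (f : X ⟶ Y) (g : Y ⟶ Z) : Prop :=
  ∀ (p : ℤ) (T : A) (y : T ⟶ Y.obj (op p)), y ≫ g.app (op p) = 0 →
    ∃ (T' : A) (π : T' ⟶ T) (_ : Epi π) (x : T' ⟶ X.obj (op p)), x ≫ f.app (op p) = π ≫ y

/-- The short complex of graded pieces. -/
noncomputable def grSC {X Y Z : ℤᵒᵖ ⥤ A} (f : X ⟶ Y) (g : Y ⟶ Z) (w : f ≫ g = 0) (p : ℤ) :
    ShortComplex A :=
  ShortComplex.mk ((FilD.gr A p).map f) ((FilD.gr A p).map g)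
    (by rw [← Functor.map_comp, w, Functor.map_zero])

lemma gr_map_comp_eq_zero {X Y Z : ℤᵒᵖ ⥤ A} (f : X ⟶ Y) (g : Y ⟶ Z) (w : f ≫ g = 0) (p : ℤ) :
    (FilD.gr A p).map f ≫ (FilD.gr A p).map g = 0 := by
  rw [← Functor.map_comp, w, Functor.map_zero]

lemma comp_app_eq_zero {X Y Z : ℤᵒᵖ ⥤ A} {f : X ⟶ Y} {g : Y ⟶ Z} (w : f ≫ g = 0) (k : ℤᵒᵖ) :
    f.app k ≫ g.app k = 0 := by
  simpa using congrArg (fun t : X ⟶ Z => t.app k) w

/-- Graded pieces are exact at the middle when the levels are and the second map is strict. -/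
theorem gr_exact {X Y : ℤᵒᵖ ⥤ A} {Z : FilD.FilF A} (f : X ⟶ Y) (g : Y ⟶ Z.obj) (w : f ≫ g = 0)
    (he : LevelExact f g) (hg : StrictStep g) (p : ℤ) : (grSC f g w p).Exact := by
  rw [ShortComplex.exact_iff_exact_up_to_refinements]
  intro T (t : T ⟶ (FilD.gr A p).obj Y) (ht : t ≫ (FilD.gr A p).map g = 0)
  obtain ⟨T₁, π₁, hπ₁, y, hy⟩ := exists_lift_gr t
  have h0 : (y ≫ g.app (op p)) ≫ grπ Z.obj p = 0 := by
    rw [Category.assoc, ← grπ_naturality g, ← Category.assoc, ← hy, Category.assoc]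
    rw [ht, comp_zero]
  obtain ⟨z, hz⟩ := exists_res_of_grπ_eq_zero Z _ h0
  obtain ⟨T₂, π₂, hπ₂, y', hy'⟩ := hg p T₁ y z hz.symm
  have h1 : (π₂ ≫ y - y' ≫ res Y (le_succ' p)) ≫ g.app (op p) = 0 := by
    rw [Preadditive.sub_comp, Category.assoc, Category.assoc, res_naturality, ← Category.assoc y',
      hy', Category.assoc, hz, sub_self]
  obtain ⟨T₃, π₃, hπ₃, x, hx⟩ := he p T₂ _ h1
  refine ⟨T₃, π₃ ≫ π₂ ≫ π₁, by infer_instance, x ≫ grπ X p, ?_⟩
  change (π₃ ≫ π₂ ≫ π₁) ≫ t = (x ≫ grπ X p) ≫ (FilD.gr A p).map f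
  rw [Category.assoc x, grπ_naturality, ← Category.assoc x, hx, Category.assoc π₃,
    Category.assoc π₂]
  simp [hy]

variable {X Y Z : FilD.FilF A} (f : X ⟶ Y) (g : Y ⟶ Z)

/-- Exact graded pieces give exact filtration steps. -/
theorem levelExact_of_gr_exact (w : f.hom ≫ g.hom = 0)
    (h : ∀ p, (grSC f.hom g.hom w p).Exact) : LevelExact f.hom g.hom := by
  intro p
  refine descend (P := fun p => ∀ (T : A) (y : T ⟶ Y.obj.obj (op p)), y ≫ g.hom.app (op p) = 0 →
    ∃ (T' : A) (π : T' ⟶ T) (_ : Epi π) (x : T' ⟶ X.obj.obj (op p)),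
      x ≫ f.hom.app (op p) = π ≫ y) ?_ (fun p ih T y hy => ?_) p
  · obtain ⟨b, hb⟩ := exists_isZero Y
    exact ⟨b, fun p hp T y _ => ⟨T, 𝟙 T, inferInstance, 0, (hb p hp).eq_of_tgt _ _⟩⟩
  · have h0 : (y ≫ grπ Y.obj p) ≫ (FilD.gr A p).map g.hom = 0 := by
      rw [Category.assoc, grπ_naturality, reassoc_of% hy, zero_comp]
    obtain ⟨T₁, π₁, hπ₁, x₁, hx₁⟩ := (h p).exact_up_to_refinements (y ≫ grπ Y.obj p) h0
    obtain ⟨T₂, π₂, hπ₂, x, hx⟩ := exists_lift_gr (F := X.obj) (p := p) x₁
    dsimp [grSC] at hx₁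
    have h1 : (π₂ ≫ π₁ ≫ y - x ≫ f.hom.app (op p)) ≫ grπ Y.obj p = 0 := by
      rw [Preadditive.sub_comp, Category.assoc, Category.assoc, hx₁, Category.assoc x,
        ← grπ_naturality, ← Category.assoc x, ← hx, Category.assoc, sub_self]
    obtain ⟨y', hy'⟩ := exists_res_of_grπ_eq_zero Y _ h1
    have h2 : y' ≫ g.hom.app (op (p + 1)) = 0 := by
      refine res_cancel Z (le_succ' p) ?_
      rw [Category.assoc, ← res_naturality, reassoc_of% hy', Preadditive.sub_comp, zero_comp,
        Category.assoc, Category.assoc, hy, comp_zero, comp_zero, Category.assoc,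
        comp_app_eq_zero w, comp_zero, sub_zero]
    obtain ⟨T₃, π₃, hπ₃, x', hx'⟩ := ih _ y' h2
    refine ⟨T₃, π₃ ≫ π₂ ≫ π₁, by infer_instance, x' ≫ res X.obj (le_succ' p) + π₃ ≫ x, ?_⟩
    rw [Preadditive.add_comp, Category.assoc, res_naturality, ← Category.assoc x', hx',
      Category.assoc, hy', Preadditive.comp_sub]
    simp only [Category.assoc]
    abel

/-- Exact graded pieces make the second map strict. -/
theorem strictR_snd_of_gr_exact (w : f.hom ≫ g.hom = 0)
    (h : ∀ p, (grSC f.hom g.hom w p).Exact) : StrictR g.hom := by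
  refine strictR_of_step fun p T y z hyz => ?_
  have h0 : (y ≫ grπ Y.obj p) ≫ (FilD.gr A p).map g.hom = 0 := by
    rw [Category.assoc, grπ_naturality, reassoc_of% hyz, res_grπ, comp_zero]
  obtain ⟨T₁, π₁, hπ₁, x₁, hx₁⟩ := (h p).exact_up_to_refinements (y ≫ grπ Y.obj p) h0
  obtain ⟨T₂, π₂, hπ₂, x, hx⟩ := exists_lift_gr (F := X.obj) (p := p) x₁
  dsimp [grSC] at hx₁
  have h1 : (π₂ ≫ π₁ ≫ y - x ≫ f.hom.app (op p)) ≫ grπ Y.obj p = 0 := by
    rw [Preadditive.sub_comp, Category.assoc, Category.assoc, hx₁, Category.assoc x,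
      ← grπ_naturality, ← Category.assoc x, ← hx, Category.assoc, sub_self]
  obtain ⟨y', hy'⟩ := exists_res_of_grπ_eq_zero Y _ h1
  refine ⟨T₂, π₂ ≫ π₁, by infer_instance, y', res_cancel Z (le_succ' p) ?_⟩
  rw [Category.assoc, ← res_naturality, reassoc_of% hy', Preadditive.sub_comp, Category.assoc,
    Category.assoc, hyz, Category.assoc, comp_app_eq_zero w, comp_zero, sub_zero, Category.assoc,
    Category.assoc]

/-- Exact graded pieces make the first map strict. -/
theorem strictR_fst_of_gr_exact (w : f.hom ≫ g.hom = 0)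
    (h : ∀ p, (grSC f.hom g.hom w p).Exact) : StrictR f.hom := by
  intro p q hpq T x y hxy
  refine levelExact_of_gr_exact f g w h q T y (res_cancel Z hpq ?_)
  rw [Category.assoc, ← res_naturality, ← Category.assoc, ← hxy, Category.assoc,
    comp_app_eq_zero w, comp_zero, zero_comp]

/-! ## strict monomorphisms -/

lemma mono_app_of_mono_gr (h : ∀ p, Mono ((FilD.gr A p).map f.hom)) (p : ℤ) :
    Mono (f.hom.app (op p)) := by
  refine descend (P := fun p => Mono (f.hom.app (op p))) ?_ (fun p ih => ?_) p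
  · obtain ⟨b, hb⟩ := exists_isZero X
    exact ⟨b, fun p hp => ⟨fun a b _ => (hb p hp).eq_of_tgt a b⟩⟩
  · refine Preadditive.mono_of_cancel_zero _ fun {T} x hx => ?_
    haveI := h p
    have h0 : x ≫ grπ X.obj p = 0 := by
      rw [← cancel_mono ((FilD.gr A p).map f.hom), Category.assoc, grπ_naturality,
        reassoc_of% hx, zero_comp, zero_comp]
    obtain ⟨x', rfl⟩ := exists_res_of_grπ_eq_zero X x h0
    haveI := ih
    have h1 : x' = 0 := by
      rw [← cancel_mono (f.hom.app (op (p + 1))), zero_comp]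
      refine res_cancel Y (le_succ' p) ?_
      rw [zero_comp, Category.assoc, ← res_naturality, ← Category.assoc, hx]
    rw [h1, zero_comp]

lemma strictR_of_mono_gr (h : ∀ p, Mono ((FilD.gr A p).map f.hom)) : StrictR f.hom := by
  refine strictR_of_step fun p T x y hxy => ?_
  haveI := h p
  have h0 : x ≫ grπ X.obj p = 0 := by
    rw [← cancel_mono ((FilD.gr A p).map f.hom), Category.assoc, grπ_naturality,
      reassoc_of% hxy, res_grπ, comp_zero, zero_comp]
  obtain ⟨x', hx'⟩ := exists_res_of_grπ_eq_zero X x h0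
  refine ⟨T, 𝟙 T, inferInstance, x', res_cancel Y (le_succ' p) ?_⟩
  rw [Category.assoc, ← res_naturality, reassoc_of% hx', hxy, Category.id_comp]

lemma mono_gr_of_strict [∀ k, Mono (f.hom.app k)] (h : StrictR f.hom) (p : ℤ) :
    Mono ((FilD.gr A p).map f.hom) := by
  refine Preadditive.mono_of_cancel_zero _ fun {T} t ht => ?_
  obtain ⟨T₁, π₁, hπ₁, x, hx⟩ := exists_lift_gr t
  have h0 : (x ≫ f.hom.app (op p)) ≫ grπ Y.obj p = 0 := by
    rw [Category.assoc, ← grπ_naturality, ← Category.assoc, ← hx, Category.assoc, ht, comp_zero]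
  obtain ⟨y, hy⟩ := exists_res_of_grπ_eq_zero Y _ h0
  obtain ⟨T₂, π₂, hπ₂, x', hx'⟩ := h p (p + 1) (le_succ' p) T₁ x y hy.symm
  have h1 : π₂ ≫ x = x' ≫ res X.obj (le_succ' p) := by
    rw [← cancel_mono (f.hom.app (op p)), Category.assoc, Category.assoc, res_naturality,
      ← hy, ← Category.assoc x', hx', Category.assoc]
  rw [← cancel_epi (π₂ ≫ π₁), comp_zero, Category.assoc, hx, reassoc_of% h1, res_grπ, comp_zero]

/-! ## subobjects and quotients -/

/-- A functor with monomorphic transition maps, zero in large degrees and with epimorphic transition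
maps in small degrees is a finite filtered object. -/
lemma isFinFil_mk (F : ℤᵒᵖ ⥤ A) (hm : ∀ p q (h : p ≤ q), Mono (res F h))
    (hb : ∃ b : ℤ, ∀ p, b ≤ p → IsZero (F.obj (op p)))
    (ha : ∃ a : ℤ, ∀ p q (h : p ≤ q), q ≤ a → Epi (res F h)) : FilD.IsFinFil A F := by
  obtain ⟨a, ha⟩ := ha
  refine ⟨?_, hb, a, ?_⟩
  · rintro ⟨q⟩ ⟨p⟩ g
    rw [map_eq_res F g]
    exact hm _ _ _
  · rintro ⟨q⟩ ⟨p⟩ g hq
    rw [map_eq_res F g]
    haveI := hm _ _ (leOfHom g.unop)
    haveI := ha _ _ (leOfHom g.unop) hq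
    exact isIso_of_mono_of_epi _

/-- A subfunctor which is a quotient of a finite filtered object is finite filtered. -/
lemma isFinFil_of_epi_mono (F : FilD.FilF A) (G : FilD.FilF A) (H : ℤᵒᵖ ⥤ A) (e : F.obj ⟶ H)
    (m : H ⟶ G.obj) [∀ k, Epi (e.app k)] [∀ k, Mono (m.app k)] : FilD.IsFinFil A H := by
  refine isFinFil_mk H (fun p q h => ?_) ?_ ?_
  · haveI := mono_res G h
    have h1 : Mono (res H h ≫ m.app (op p)) := by
      rw [res_naturality]; exact mono_comp _ _
    exact mono_of_mono (res H h) (m.app (op p))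
  · obtain ⟨b, hb⟩ := exists_isZero G
    exact ⟨b, fun p hp => IsZero.of_mono (m.app (op p)) (hb p hp)⟩
  · obtain ⟨a, ha⟩ := exists_isIso F
    refine ⟨a, fun p q h hq => ?_⟩
    haveI := ha p q h hq
    have h1 : Epi (e.app (op q) ≫ res H h) := by
      rw [← res_naturality]; exact epi_comp _ _
    exact epi_of_epi (e.app (op q)) _

/-- The cokernel of a strict morphism is finite filtered. -/
lemma isFinFil_cokernel (hf : StrictR f.hom) : FilD.IsFinFil A (cokernel f.hom) := by
  refine isFinFil_mk _ (fun p q h => ?_) ?_ ?_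
  · refine Preadditive.mono_of_cancel_zero _ fun {T} t ht => ?_
    haveI : Epi ((cokernel.π f.hom).app (op q)) :=
      inferInstance
    obtain ⟨T₁, π₁, hπ₁, y, hy⟩ :=
      surjective_up_to_refinements_of_epi ((cokernel.π f.hom).app (op q)) t
    have h0 : (y ≫ res Y.obj h) ≫ (cokernel.π f.hom).app (op p) = 0 := by
      rw [Category.assoc, res_naturality, ← Category.assoc, ← hy, Category.assoc, ht, comp_zero]
    have hex : (ShortComplex.mk (f.hom.app (op p)) ((cokernel.π f.hom).app (op p))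
        (comp_app_eq_zero (cokernel.condition _) _)).Exact :=
      (ShortComplex.exact_of_g_is_cokernel (ShortComplex.mk f.hom (cokernel.π f.hom) (cokernel.condition _)) (cokernelIsCokernel f.hom)).map ((evaluation ℤᵒᵖ A).obj (op p))
    obtain ⟨T₂, π₂, hπ₂, x, hx⟩ := hex.exact_up_to_refinements _ h0
    dsimp at hx
    obtain ⟨T₃, π₃, hπ₃, x', hx'⟩ := hf p q h T₂ x (π₂ ≫ y) (by rw [← hx, Category.assoc])
    rw [← cancel_epi (π₃ ≫ π₂ ≫ π₁), comp_zero, Category.assoc, Category.assoc, hy,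
      ← Category.assoc π₂, ← Category.assoc π₃, ← hx', Category.assoc,
      comp_app_eq_zero (cokernel.condition _), comp_zero]
  · obtain ⟨b, hb⟩ := exists_isZero Y
    exact ⟨b, fun p hp => IsZero.of_epi ((cokernel.π f.hom).app (op p)) (hb p hp)⟩
  · obtain ⟨a, ha⟩ := exists_isIso Y
    refine ⟨a, fun p q h hq => ?_⟩
    haveI := ha p q h hq
    have h1 : Epi ((cokernel.π f.hom).app (op q) ≫ res (cokernel f.hom) h) := by
      rw [← res_naturality]; exact epi_comp _ _
    exact epi_of_epi ((cokernel.π f.hom).app (op q)) _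

/-- Elements killed by `f` lift to the kernel. -/
lemma exists_kernel_lift {F G : ℤᵒᵖ ⥤ A} (φ : F ⟶ G) (k : ℤᵒᵖ) {T : A} (x : T ⟶ F.obj k)
    (hx : x ≫ φ.app k = 0) :
    ∃ x' : T ⟶ (kernel φ).obj k, x' ≫ (kernel.ι φ).app k = x := by
  have hex : (ShortComplex.mk ((kernel.ι φ).app k) (φ.app k)
      (comp_app_eq_zero (kernel.condition _) _)).Exact :=
    (ShortComplex.exact_of_f_is_kernel (ShortComplex.mk (kernel.ι φ) φ (kernel.condition _)) (kernelIsKernel φ)).map ((evaluation ℤᵒᵖ A).obj k)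
  haveI : Mono (ShortComplex.mk ((kernel.ι φ).app k) (φ.app k)
      (comp_app_eq_zero (kernel.condition _) _)).f := by dsimp; infer_instance
  exact ⟨hex.lift x hx, hex.lift_f x hx⟩

/-- The kernel of a morphism of finite filtered objects is finite filtered. -/
lemma isFinFil_kernel : FilD.IsFinFil A (kernel f.hom) := by
  refine isFinFil_mk _ (fun p q h => ?_) ?_ ?_
  · haveI := mono_res X h
    have h1 : Mono (res (kernel f.hom) h ≫ (kernel.ι f.hom).app (op p)) := by
      rw [res_naturality]; exact mono_comp _ _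
    exact mono_of_mono (res _ h) ((kernel.ι f.hom).app (op p))
  · obtain ⟨b, hb⟩ := exists_isZero X
    exact ⟨b, fun p hp => IsZero.of_mono ((kernel.ι f.hom).app (op p)) (hb p hp)⟩
  · obtain ⟨a, ha⟩ := exists_isIso X
    refine ⟨a, fun p q h hq => ?_⟩
    haveI := ha p q h hq
    rw [epi_iff_surjective_up_to_refinements]
    intro T x
    have h0 : (x ≫ (kernel.ι f.hom).app (op p) ≫ inv (res X.obj h)) ≫ f.hom.app (op q) = 0 := by
      refine res_cancel Y h ?_
      rw [zero_comp, Category.assoc, ← res_naturality, Category.assoc, Category.assoc,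
        IsIso.inv_hom_id_assoc, comp_app_eq_zero (kernel.condition _), comp_zero]
    obtain ⟨x', hx'⟩ := exists_kernel_lift f.hom _ _ h0
    refine ⟨T, 𝟙 T, inferInstance, x', ?_⟩
    rw [← cancel_mono ((kernel.ι f.hom).app (op p)), Category.id_comp, Category.assoc,
      res_naturality, reassoc_of% hx', IsIso.inv_hom_id, Category.comp_id]

/-- Strictness is exactness of the graded pieces at the kernel. -/
theorem strictR_iff_gr_kernel_exact :
    StrictR f.hom ↔ ∀ p, (grSC (kernel.ι f.hom) f.hom (kernel.condition f.hom) p).Exact := by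
  constructor
  · intro h p
    refine gr_exact _ _ _ (fun q T y hy => ?_) (fun q T x y hxy => h q (q + 1) _ T x y hxy) p
    obtain ⟨x', hx'⟩ := exists_kernel_lift f.hom _ y hy
    exact ⟨T, 𝟙 T, inferInstance, x', by simpa using hx'⟩
  · intro h
    exact strictR_snd_of_gr_exact (X := ⟨kernel f.hom, isFinFil_kernel f⟩)
      (ObjectProperty.homMk (kernel.ι f.hom)) f (kernel.condition f.hom) h

/-- A monomorphism of finite filtered objects is levelwise monomorphic. -/
lemma mono_app_of_mono [Mono f] (k : ℤᵒᵖ) : Mono (f.hom.app k) := by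
  let K : FilD.FilF A := ⟨kernel f.hom, isFinFil_kernel f⟩
  let i : K ⟶ X := ObjectProperty.homMk (kernel.ι f.hom)
  have h0 : i ≫ f = 0 := ObjectProperty.hom_ext _ (kernel.condition f.hom)
  have h1 : i = 0 := zero_of_comp_mono f h0
  have h2 : kernel.ι f.hom = 0 := congrArg InducedCategory.Hom.hom h1
  haveI : Mono f.hom := Preadditive.mono_of_kernel_zero h2
  infer_instance

lemma mono_of_mono_app [∀ k, Mono (f.hom.app k)] : Mono f := by
  haveI : Mono f.hom := NatTrans.mono_of_mono_app _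
  refine ⟨fun a b h => ObjectProperty.hom_ext _ ?_⟩
  exact (cancel_mono f.hom).1 (congrArg InducedCategory.Hom.hom h)

/-- A morphism with monomorphic graded pieces is a strict monomorphism. -/
lemma strictMono_of_mono_gr (h : ∀ p, Mono ((FilD.gr A p).map f.hom)) :
    Mono f ∧ FilD.IsStrict f := by
  haveI : ∀ k, Mono (f.hom.app k) := fun k => mono_app_of_mono_gr f h k.unop
  exact ⟨mono_of_mono_app f, (isStrict_iff f).2 (strictR_of_mono_gr f h)⟩

lemma mono_gr_of_strictMono [Mono f] (h : FilD.IsStrict f) (p : ℤ) :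
    Mono ((FilD.gr A p).map f.hom) := by
  haveI : ∀ k, Mono (f.hom.app k) := mono_app_of_mono f
  exact mono_gr_of_strict f ((isStrict_iff f).1 h) p

end Groth.Agent.FilDLib
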