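import Groth.Agent.FilDLib.Exact
import Mathlib.CategoryTheory.Preadditive.Injective.Basic
import Mathlib.CategoryTheory.Abelian.Images
import Mathlib.CategoryTheory.Preadditive.Biproducts
import Mathlib.Data.Int.Interval
import Mathlib.Data.Set.Finite.Lattice

/-!
# Filtered injective objects: extension property and enough of them
-/

universe v u

open CategoryTheory CategoryTheory.Limits Opposite

namespace Groth.Agent.FilDLib

variable {A : Type u} [Category.{v} A] [Abelian A]

attribute [local instance] Abelian.hasFiniteBiproducts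

/-! ## binary biproducts -/

section Biprod

variable (X Y : FilD.FilF A)

lemma isFinFil_biprod : FilD.IsFinFil A (X.obj ⊞ Y.obj) := by
  have htot : ∀ k, (biprod.fst : X.obj ⊞ Y.obj ⟶ _).app k ≫ (biprod.inl : X.obj ⟶ _).app k +
      (biprod.snd : X.obj ⊞ Y.obj ⟶ _).app k ≫ (biprod.inr : Y.obj ⟶ _).app k =
        𝟙 ((X.obj ⊞ Y.obj).obj k) := fun k => by
    rw [← NatTrans.comp_app, ← NatTrans.comp_app, ← NatTrans.app_add, biprod.total, NatTrans.id_app]
  refine isFinFil_mk _ (fun p q h => ?_) ?_ ?_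
  · refine Preadditive.mono_of_cancel_zero _ fun {T} x hx => ?_
    have h1 : x ≫ (biprod.fst : X.obj ⊞ Y.obj ⟶ _).app (op q) = 0 :=
      res_cancel X h (by rw [zero_comp, Category.assoc, ← res_naturality, reassoc_of% hx,
        zero_comp])
    have h2 : x ≫ (biprod.snd : X.obj ⊞ Y.obj ⟶ _).app (op q) = 0 :=
      res_cancel Y h (by rw [zero_comp, Category.assoc, ← res_naturality, reassoc_of% hx,
        zero_comp])
    rw [← Category.comp_id x, ← htot, Preadditive.comp_add, reassoc_of% h1, reassoc_of% h2,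
      zero_comp, zero_comp, add_zero]
  · obtain ⟨b, hb⟩ := exists_isZero X
    obtain ⟨b', hb'⟩ := exists_isZero Y
    refine ⟨max b b', fun p hp => (IsZero.iff_id_eq_zero _).2 ?_⟩
    rw [← htot, (hb p (by omega)).eq_of_tgt ((biprod.fst : X.obj ⊞ Y.obj ⟶ _).app _) 0,
      (hb' p (by omega)).eq_of_tgt ((biprod.snd : X.obj ⊞ Y.obj ⟶ _).app _) 0, zero_comp,
      zero_comp, add_zero]
  · obtain ⟨a, ha⟩ := exists_isIso X
    obtain ⟨a', ha'⟩ := exists_isIso Y
    refine ⟨min a a', fun p q h hq => ?_⟩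
    haveI := ha p q h (by omega)
    haveI := ha' p q h (by omega)
    refine (SplitEpi.mk
      ((biprod.fst : X.obj ⊞ Y.obj ⟶ _).app (op p) ≫ inv (res X.obj h) ≫
          (biprod.inl : X.obj ⟶ X.obj ⊞ Y.obj).app (op q) +
        (biprod.snd : X.obj ⊞ Y.obj ⟶ _).app (op p) ≫ inv (res Y.obj h) ≫
          (biprod.inr : Y.obj ⟶ X.obj ⊞ Y.obj).app (op q)) ?_).epi
    simp only [Preadditive.add_comp, Category.assoc]
    rw [← res_naturality, ← res_naturality, IsIso.inv_hom_id_assoc, IsIso.inv_hom_id_assoc, htot]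

/-- The biproduct bicone in finite filtered objects. -/
noncomputable def bicone : BinaryBicone X Y where
  pt := ⟨X.obj ⊞ Y.obj, isFinFil_biprod X Y⟩
  fst := ObjectProperty.homMk biprod.fst
  snd := ObjectProperty.homMk biprod.snd
  inl := ObjectProperty.homMk biprod.inl
  inr := ObjectProperty.homMk biprod.inr
  inl_fst := ObjectProperty.hom_ext _ biprod.inl_fst
  inl_snd := ObjectProperty.hom_ext _ biprod.inl_snd
  inr_fst := ObjectProperty.hom_ext _ biprod.inr_fst
  inr_snd := ObjectProperty.hom_ext _ biprod.inr_snd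

instance hasBinaryBiproducts : HasBinaryBiproducts (FilD.FilF A) where
  has_binary_biproduct X Y :=
    HasBinaryBiproduct.mk ⟨bicone X Y, isBinaryBilimitOfTotal _
      (ObjectProperty.hom_ext _ biprod.total)⟩

lemma injective_gr_biprod (p : ℤ) [hX : Injective ((FilD.grF A p).obj X)]
    [hY : Injective ((FilD.grF A p).obj Y)] : Injective ((FilD.grF A p).obj (X ⊞ Y)) := by
  have htot : (FilD.grF A p).map (biprod.fst : X ⊞ Y ⟶ X) ≫ (FilD.grF A p).map biprod.inl +
      (FilD.grF A p).map (biprod.snd : X ⊞ Y ⟶ Y) ≫ (FilD.grF A p).map biprod.inr =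
        𝟙 ((FilD.grF A p).obj (X ⊞ Y)) := by
    rw [← Functor.map_comp, ← Functor.map_comp, ← Functor.map_add, biprod.total]
    exact (FilD.grF A p).map_id (X ⊞ Y)
  refine ⟨fun g m _ => ⟨Injective.factorThru (g ≫ (FilD.grF A p).map biprod.fst) m ≫
    (FilD.grF A p).map biprod.inl + Injective.factorThru (g ≫ (FilD.grF A p).map biprod.snd) m ≫
    (FilD.grF A p).map biprod.inr, ?_⟩⟩
  rw [Preadditive.comp_add, Injective.comp_factorThru_assoc, Injective.comp_factorThru_assoc,
    Category.assoc, Category.assoc, ← Preadditive.comp_add, htot, Category.comp_id]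

lemma isFilteredInjective_biprod (hX : FilD.IsFilteredInjective X)
    (hY : FilD.IsFilteredInjective Y) : FilD.IsFilteredInjective (X ⊞ Y) := fun p =>
  injective_gr_biprod X Y p (hX := hX p) (hY := hY p)

end Biprod

/-! ## the extension property -/

lemma injective_of_isZero {Z : A} (hZ : IsZero Z) : Injective Z :=
  ⟨fun _ _ _ => ⟨0, hZ.eq_of_tgt _ _⟩⟩

/-- All filtration steps of a filtered injective object are injective. -/
lemma injective_obj {I : FilD.FilF A} (hI : FilD.IsFilteredInjective I) (p : ℤ) :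
    Injective (I.obj.obj (op p)) := by
  refine descend (P := fun p => Injective (I.obj.obj (op p))) ?_ (fun p ih => ?_) p
  · obtain ⟨b, hb⟩ := exists_isZero I
    exact ⟨b, fun p hp => injective_of_isZero (hb p hp)⟩
  · haveI := ih
    haveI : Injective ((FilD.gr A p).obj I.obj) := hI p
    haveI := mono_res I (le_succ' p)
    let r := Injective.factorThru (𝟙 (I.obj.obj (op (p + 1)))) (res I.obj (le_succ' p))
    have hr : res I.obj (le_succ' p) ≫ r = 𝟙 _ := Injective.comp_factorThru _ _
    let s : (FilD.gr A p).obj I.obj ⟶ I.obj.obj (op p) :=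
      cokernel.desc _ (𝟙 _ - r ≫ res I.obj (le_succ' p))
        (show res I.obj (le_succ' p) ≫ _ = 0 by
          rw [Preadditive.comp_sub, Category.comp_id, reassoc_of% hr, sub_self])
    have hs : grπ I.obj p ≫ s = 𝟙 _ - r ≫ res I.obj (le_succ' p) := cokernel.π_desc _ _ _
    refine ⟨fun g m _ => ⟨Injective.factorThru (g ≫ r) m ≫ res I.obj (le_succ' p) +
      Injective.factorThru (g ≫ grπ I.obj p) m ≫ s, ?_⟩⟩
    rw [Preadditive.comp_add, Injective.comp_factorThru_assoc, Injective.comp_factorThru_assoc,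
      Category.assoc, Category.assoc, ← Preadditive.comp_add, hs, add_sub_cancel, Category.comp_id]

/-- A morphism defined on an image. -/
lemma exists_desc_image {T V W : A} (φ : T ⟶ V) (k : T ⟶ W) [Injective W]
    (h : kernel.ι φ ≫ k = 0) : ∃ g : V ⟶ W, φ ≫ g = k := by
  have h' : kernel.ι (Abelian.factorThruImage φ) ≫ k = 0 := by
    have h0 : kernel.ι (Abelian.factorThruImage φ) ≫ φ = 0 :=
      (congrArg (kernel.ι (Abelian.factorThruImage φ) ≫ ·) (Abelian.image.fac φ)).symm.trans
        (by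
          change kernel.ι (Abelian.factorThruImage φ) ≫ _ ≫ _ = 0
          rw [kernel.condition_assoc, zero_comp])
    rw [← kernel.lift_ι φ _ h0, Category.assoc, h, comp_zero]
  refine ⟨Injective.factorThru (Abelian.epiDesc (Abelian.factorThruImage φ) k h')
    (Abelian.image.ι φ), ?_⟩
  calc φ ≫ Injective.factorThru _ (Abelian.image.ι φ)
      = (Abelian.factorThruImage φ ≫ Abelian.image.ι φ) ≫
          Injective.factorThru _ (Abelian.image.ι φ) := by rw [Abelian.image.fac]
    _ = k := by rw [Category.assoc, Injective.comp_factorThru, Abelian.comp_epiDesc]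

variable {X Y I : FilD.FilF A} (u : X ⟶ Y) (f : X ⟶ I)

lemma exists_desc_step [∀ k, Mono (u.hom.app k)] (hu : StrictR u.hom) (p : ℤ)
    [Injective (I.obj.obj (op p))] (g' : Y.obj.obj (op (p + 1)) ⟶ I.obj.obj (op (p + 1)))
    (hg' : u.hom.app (op (p + 1)) ≫ g' = f.hom.app (op (p + 1))) :
    ∃ g : Y.obj.obj (op p) ⟶ I.obj.obj (op p),
      u.hom.app (op p) ≫ g = f.hom.app (op p) ∧
        res Y.obj (le_succ' p) ≫ g = g' ≫ res I.obj (le_succ' p) := by
  let φ := biprod.desc (u.hom.app (op p)) (-res Y.obj (le_succ' p))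
  let k := biprod.desc (f.hom.app (op p)) (-(g' ≫ res I.obj (le_succ' p)))
  obtain ⟨g, hg⟩ := exists_desc_image φ k (by
    have h0 : (kernel.ι φ ≫ biprod.fst) ≫ u.hom.app (op p) =
        (kernel.ι φ ≫ biprod.snd) ≫ res Y.obj (le_succ' p) := by
      rw [← sub_eq_zero, Category.assoc, Category.assoc, ← Preadditive.comp_sub]
      simpa [φ, biprod.desc_eq, sub_eq_add_neg] using kernel.condition φ
    obtain ⟨T, π, hπ, x', hx'⟩ := hu p (p + 1) (le_succ' p) _ _ _ h0
    have hx : π ≫ kernel.ι φ ≫ biprod.fst = x' ≫ res X.obj (le_succ' p) := by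
      rw [← cancel_mono (u.hom.app (op p))]
      simp only [Category.assoc] at h0 ⊢
      rw [h0, res_naturality, reassoc_of% hx']
    simp only [k]
    rw [← cancel_epi π, comp_zero, biprod.desc_eq, Preadditive.comp_add, Preadditive.comp_add,
      Preadditive.comp_neg, Preadditive.comp_neg, Preadditive.comp_neg, reassoc_of% hx,
      res_naturality, ← reassoc_of% hx', reassoc_of% hg', add_neg_cancel])
  refine ⟨g, ?_, ?_⟩
  · simpa [φ, k] using congrArg (biprod.inl ≫ ·) hg
  · simpa [φ, k] using congrArg (biprod.inr ≫ ·) hg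

/-- Extension of morphisms into filtered injective objects along strict monomorphisms. -/
theorem exists_desc_filteredInjective [∀ k, Mono (u.hom.app k)] (hu : StrictR u.hom)
    (hI : FilD.IsFilteredInjective I) : ∃ g : Y ⟶ I, u ≫ g = f := by
  classical
  haveI := fun p => injective_obj hI p
  obtain ⟨b, hb⟩ := exists_isZero Y
  let D (p : ℤ) := {g : Y.obj.obj (op p) ⟶ I.obj.obj (op p) //
    u.hom.app (op p) ≫ g = f.hom.app (op p)}
  let stp (p : ℤ) (g' : D (p + 1)) : D p :=
    ⟨_, (exists_desc_step u f hu p g'.1 g'.2).choose_spec.1⟩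
  have base : ∀ p, b ≤ p → u.hom.app (op p) ≫ (0 : Y.obj.obj (op p) ⟶ I.obj.obj (op p)) =
      f.hom.app (op p) := fun p hp => (IsZero.of_mono (u.hom.app (op p)) (hb p hp)).eq_of_src _ _
  let rec' : ∀ (n : ℕ) (p : ℤ), b ≤ p + n → D p := fun n => Nat.rec
    (fun p hp => ⟨0, base p (by simp at hp; exact hp)⟩)
    (fun n ih p hp =>
      if hbp : b ≤ p then ⟨0, base p hbp⟩ else stp p (ih (p + 1) (by push_cast at hp ⊢; omega))) n
  let G (p : ℤ) : D p := rec' (b - p).toNat p (by omega)
  have hG : ∀ p : ℤ, ¬ b ≤ p → G p = stp p (G (p + 1)) := by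
    intro p hp
    have rec_congr : ∀ (n m : ℕ) (q : ℤ) (hn : b ≤ q + n) (hm : b ≤ q + m), n = m →
        rec' n q hn = rec' m q hm := by
      intro n m q hn hm e; subst e; rfl
    obtain ⟨n, hn⟩ : ∃ n : ℕ, (b - p).toNat = n + 1 := ⟨(b - p).toNat - 1, by omega⟩
    simp only [G]
    rw [rec_congr _ (n + 1) p _ (by omega) hn,
      rec_congr (b - (p + 1)).toNat n (p + 1) _ (by omega) (by omega)]
    exact dif_neg hp
  have hcomp : ∀ p, res Y.obj (le_succ' p) ≫ (G p).1 = (G (p + 1)).1 ≫ res I.obj (le_succ' p) := by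
    intro p
    by_cases hp : b ≤ p
    · exact (hb (p + 1) (by omega)).eq_of_src _ _
    · rw [hG p hp]
      exact (exists_desc_step u f hu p (G (p + 1)).1 (G (p + 1)).2).choose_spec.2
  refine ⟨ObjectProperty.homMk (homMk Y.obj I.obj (fun p => (G p).1) hcomp),
    ObjectProperty.hom_ext _ ?_⟩
  ext ⟨p⟩
  exact (G p).2

/-! ## enough filtered injectives -/

/-- A compatible family of maps to a fixed injective object extending a given one on `gr^i`. -/
lemma exists_toInjective (X : FilD.FilF A) (i : ℤ) {J : A} [Injective J]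
    (e : (FilD.gr A i).obj X.obj ⟶ J) :
    ∃ h : ∀ q : ℤ, X.obj.obj (op q) ⟶ J, (∀ q, res X.obj (le_succ' q) ≫ h q = h (q + 1)) ∧
      h i = grπ X.obj i ≫ e ∧ ∀ q, i < q → h q = 0 := by
  classical
  haveI : ∀ q, Mono (res X.obj (le_succ' q)) := fun q => mono_res X _
  -- `T n` is the map on `X (i - n)`
  let T : (n : ℕ) → (q : ℤ) → q + n = i → (X.obj.obj (op q) ⟶ J) := fun n => Nat.rec
    (fun q hq => X.obj.map (eqToHom (by congr 1; simp at hq; exact hq : (op q : ℤᵒᵖ) = op i)) ≫ grπ X.obj i ≫ e)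
    (fun n ih q hq => Injective.factorThru (ih (q + 1) (by push_cast at hq ⊢; omega))
      (res X.obj (le_succ' q))) n
  have T_congr : ∀ (n m : ℕ) (q : ℤ) (hn : q + n = i) (hm : q + m = i), n = m →
      T n q hn = T m q hm := by
    intro n m q hn hm e; subst e; rfl
  refine ⟨fun q => if h : q ≤ i then T (i - q).toNat q (by omega) else 0, fun q => ?_, ?_,
    fun q hq => dif_neg (by omega)⟩
  · rcases lt_trichotomy q i with hq | hq | hq
    · dsimp only
      rw [dif_pos hq.le, dif_pos (by omega : q + 1 ≤ i)]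
      obtain ⟨n, hn⟩ : ∃ n : ℕ, (i - q).toNat = n + 1 := ⟨(i - q).toNat - 1, by omega⟩
      rw [T_congr _ (n + 1) q _ (by omega) hn,
        T_congr (i - (q + 1)).toNat n (q + 1) _ (by omega) (by omega)]
      exact Injective.comp_factorThru _ _
    · subst hq
      dsimp only
      rw [dif_pos le_rfl, dif_neg (by omega), T_congr _ 0 q _ (by omega) (by omega)]
      simp [T, res_grπ_assoc]
    · dsimp only
      rw [dif_neg (by omega), dif_neg (by omega), comp_zero]
  · dsimp only
    rw [dif_pos le_rfl, T_congr _ 0 i _ (by omega) (by omega)]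
    simp [T]

variable (J : ℤ → A) (s : Finset ℤ)

/-- The indices of the summands in step `q`. -/
abbrev Idx (q : ℤ) : Type := {i : ↥s // q ≤ i.1}

/-- The inclusion of the summands of step `q` into those of step `p ≤ q`. -/
noncomputable def splitMap {p q : ℤ} (h : p ≤ q) :
    (⨁ fun i : Idx s q => J i.1.1) ⟶ ⨁ fun i : Idx s p => J i.1.1 :=
  biproduct.desc fun i => biproduct.ι (fun i : Idx s p => J i.1.1) ⟨i.1, h.trans i.2⟩

@[reassoc]
lemma ι_splitMap {p q : ℤ} (h : p ≤ q) (i : Idx s q) :
    biproduct.ι (fun i : Idx s q => J i.1.1) i ≫ splitMap J s h =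
      biproduct.ι (fun i : Idx s p => J i.1.1) ⟨i.1, h.trans i.2⟩ :=
  biproduct.ι_desc _ _

lemma splitMap_π {p q : ℤ} (h : p ≤ q) (i : Idx s p) :
    splitMap J s h ≫ biproduct.π (fun i : Idx s p => J i.1.1) i =
      if hi : q ≤ i.1.1 then biproduct.π (fun i : Idx s q => J i.1.1) ⟨i.1, hi⟩ else 0 := by
  classical
  refine biproduct.hom_ext' _ _ fun j => ?_
  rw [ι_splitMap_assoc]
  by_cases hij : j.1 = i.1
  · have hi : q ≤ i.1.1 := hij ▸ j.2
    rw [dif_pos hi, biproduct.ι_π, biproduct.ι_π, dif_pos (Subtype.ext hij),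
      dif_pos (Subtype.ext hij)]
  · have hne : (⟨j.1, h.trans j.2⟩ : Idx s p) ≠ i := fun e =>
      hij (congrArg (fun k : Idx s p => k.1) e)
    rw [biproduct.ι_π_ne _ hne]
    split_ifs with hi
    · have hne' : j ≠ ⟨i.1, hi⟩ := fun e => hij (congrArg (fun k : Idx s q => k.1) e)
      exact (biproduct.ι_π_ne (fun i : Idx s q => J i.1.1) hne').symm
    · rw [comp_zero]

/-- The split filtered object with graded pieces `J i`, `i ∈ s`. -/
noncomputable def splitF : ℤᵒᵖ ⥤ A where
  obj q := ⨁ fun i : Idx s q.unop => J i.1.1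
  map g := splitMap J s (leOfHom g.unop)
  map_id q := biproduct.hom_ext' _ _ fun i => by simp [ι_splitMap]
  map_comp g g' := biproduct.hom_ext' _ _ fun i => by simp [ι_splitMap, ι_splitMap_assoc]

lemma isFinFil_splitF : FilD.IsFinFil A (splitF J s) := by
  classical
  refine isFinFil_mk _ (fun p q h => ?_) ?_ ?_
  · refine (SplitMono.mk (biproduct.desc fun i : Idx s p =>
      if hi : q ≤ i.1.1 then biproduct.ι (fun i : Idx s q => J i.1.1) ⟨i.1, hi⟩ else 0) ?_).mono
    refine biproduct.hom_ext' _ _ fun i => ?_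
    simp [res, splitF, ι_splitMap_assoc, i.2]
  · obtain ⟨b, hb⟩ := s.bddAbove
    refine ⟨b + 1, fun p hp => (IsZero.iff_id_eq_zero _).2 ?_⟩
    refine biproduct.hom_ext' _ _ fun i => ?_
    have h1 : i.1.1 ≤ b := hb i.1.2
    have h2 : p ≤ i.1.1 := i.2
    exfalso; omega
  · obtain ⟨a, ha⟩ := s.bddBelow
    refine ⟨a, fun p q h hq => ?_⟩
    refine (SplitEpi.mk (biproduct.desc fun i : Idx s p =>
      biproduct.ι (fun i : Idx s q => J i.1.1) ⟨i.1, hq.trans (ha i.1.2)⟩) ?_).epi
    refine biproduct.hom_ext' _ _ fun i => ?_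
    simp [res, splitF, ι_splitMap]

lemma injective_gr_splitF (hJ : ∀ i, Injective (J i)) (p : ℤ) :
    Injective ((FilD.gr A p).obj (splitF J s)) := by
  classical
  haveI : Injective ((splitF J s).obj (op p)) :=
    inferInstanceAs (Injective (⨁ fun i : Idx s p => J i.1.1))
  let r : (splitF J s).obj (op p) ⟶ (splitF J s).obj (op (p + 1)) :=
    biproduct.desc fun i : Idx s p =>
      if hi : p + 1 ≤ i.1.1 then biproduct.ι (fun i : Idx s (p + 1) => J i.1.1) ⟨i.1, hi⟩ else 0
  have hr : res (splitF J s) (le_succ' p) ≫ r = 𝟙 _ := by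
    refine biproduct.hom_ext' _ _ fun i => ?_
    simp [res, splitF, r, ι_splitMap_assoc, i.2]
  let sec : (FilD.gr A p).obj (splitF J s) ⟶ (splitF J s).obj (op p) :=
    cokernel.desc _ (𝟙 _ - r ≫ res (splitF J s) (le_succ' p))
      (show res (splitF J s) (le_succ' p) ≫ _ = 0 by
        rw [Preadditive.comp_sub, Category.comp_id, reassoc_of% hr, sub_self])
  refine (Retract.mk (X := (FilD.gr A p).obj (splitF J s)) sec (grπ _ p) ?_).injective
  refine hom_ext_gr ?_
  rw [← Category.assoc, show grπ _ p ≫ sec = _ from cokernel.π_desc _ _ _, Preadditive.sub_comp,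
    Category.assoc, res_grπ, comp_zero, sub_zero, Category.id_comp, Category.comp_id]

/-- Enough filtered injective objects. -/
theorem exists_strictMono_filteredInjective [EnoughInjectives A] (X : FilD.FilF A) :
    ∃ (I : FilD.FilF A) (u : X ⟶ I),
      FilD.IsFilteredInjective I ∧ Mono u ∧ FilD.IsStrict u := by
  classical
  obtain ⟨a, ha⟩ := exists_isIso X
  obtain ⟨b, hb⟩ := exists_isZero X
  let s : Finset ℤ := Finset.Icc a b
  let J : ℤ → A := fun i => Injective.under ((FilD.gr A i).obj X.obj)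
  haveI : ∀ i, Injective (J i) := fun i => by dsimp [J]; infer_instance
  have key := fun i : ℤ => exists_toInjective X i (Injective.ι ((FilD.gr A i).obj X.obj))
  choose h hh hπ h0 using key
  have hh' : ∀ (i p q : ℤ) (hpq : p ≤ q), res X.obj hpq ≫ h i p = h i q := fun i p q hpq => by
    induction q, hpq using Int.leInduction with
    | base => simp
    | succ q hq ih => rw [← res_res X.obj hq (le_succ' q), Category.assoc, ih, hh]
  let u : X.obj ⟶ splitF J s := homMk _ _
    (fun q => biproduct.lift (f := fun i : Idx s q => J i.1.1) fun i => h i.1.1 q) (fun q => by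
      change res X.obj (le_succ' q) ≫
        biproduct.lift (f := fun i : Idx s q => J i.1.1) (fun i => h i.1.1 q) =
        biproduct.lift (f := fun i : Idx s (q + 1) => J i.1.1) (fun i => h i.1.1 (q + 1)) ≫ splitMap J s (le_succ' q)
      refine biproduct.hom_ext _ _ fun i => ?_
      rw [Category.assoc, Category.assoc, biproduct.lift_π, hh]
      erw [splitMap_π]
      split_ifs with hi
      · rw [biproduct.lift_π]
      · rw [comp_zero, h0 _ _ (by omega)])
  let uu : X ⟶ ⟨splitF J s, isFinFil_splitF J s⟩ := ObjectProperty.homMk u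
  refine ⟨_, uu, fun p => injective_gr_splitF J s (fun i => inferInstance) p,
    strictMono_of_mono_gr uu fun p => ?_⟩
  by_cases hp : p ∈ s
  · let i₀ : Idx s p := ⟨⟨p, hp⟩, le_rfl⟩
    let pr : (FilD.gr A p).obj (splitF J s) ⟶ J p :=
      cokernel.desc _ (biproduct.π (fun i : Idx s p => J i.1.1) i₀) (by
        change splitMap J s (le_succ' p) ≫ _ = 0
        rw [splitMap_π, dif_neg (show ¬ p + 1 ≤ i₀.1.1 from by simp [i₀])])
    have hpr : (FilD.gr A p).map u ≫ pr = Injective.ι _ := by
      refine hom_ext_gr ?_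
      rw [← Category.assoc, grπ_naturality, Category.assoc,
        show grπ _ p ≫ pr = _ from cokernel.π_desc _ _ _, ← hπ p]
      exact biproduct.lift_π _ _
    have h9 : Mono ((FilD.gr A p).map u ≫ pr) := by rw [hpr]; infer_instance
    exact @mono_of_mono _ _ _ _ _ ((FilD.gr A p).map u) pr h9
  · refine Preadditive.mono_of_cancel_zero _ fun {T} t _ => ?_
    have hz : grπ X.obj p = 0 := by
      rcases (not_and_or.1 (fun hh : a ≤ p ∧ p ≤ b => hp (Finset.mem_Icc.2 hh))) with hlt | hlt
      · haveI := ha p (p + 1) (le_succ' p) (by omega)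
        rw [← cancel_epi (res X.obj (le_succ' p)), res_grπ, comp_zero]
      · exact (hb p (by omega)).eq_of_src _ _
    have : 𝟙 ((FilD.gr A p).obj X.obj) = 0 := hom_ext_gr (by rw [hz, zero_comp, zero_comp])
    exact ((IsZero.iff_id_eq_zero _).2 this).eq_of_tgt _ _

end Groth.Agent.FilDLib
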