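import Groth.Agent.FilDLib.Inj
import Mathlib.Algebra.Homology.Homotopy
import Mathlib.Algebra.Homology.HomotopyCategory.KInjective
import Mathlib.Algebra.Homology.Embedding.CochainComplex

/-!
# Morphisms from filtered acyclic complexes to filtered injective complexes are null-homotopic
-/

universe v u

open CategoryTheory CategoryTheory.Limits Opposite

namespace Groth.Agent.FilDLib

variable {A : Type u} [Category.{v} A] [Abelian A]

/-- Factorisation through the second map of a sequence with exact graded pieces. -/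
theorem exists_factor {X Y Z I : FilD.FilF A} (f : X ⟶ Y) (g : Y ⟶ Z) (w : f.hom ≫ g.hom = 0)
    (h : ∀ p, (grSC f.hom g.hom w p).Exact) (hI : FilD.IsFilteredInjective I)
    (ψ : Y ⟶ I) (hψ : f ≫ ψ = 0) : ∃ k : Z ⟶ I, g ≫ k = ψ := by
  let e := Abelian.factorThruImage g.hom
  let m := Abelian.image.ι g.hom
  have hem : e ≫ m = g.hom := Abelian.image.fac _
  have hem' : ∀ k, e.app k ≫ m.app k = g.hom.app k := fun k => by rw [← NatTrans.comp_app, hem]
  let B : FilD.FilF A := ⟨_, isFinFil_of_epi_mono Y Z _ e m⟩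
  let mB : B ⟶ Z := ObjectProperty.homMk m
  have hker : kernel.ι e ≫ ψ.hom = 0 := by
    ext ⟨p⟩
    have h0 : (kernel.ι e).app (op p) ≫ g.hom.app (op p) = 0 := by
      rw [← hem', ← Category.assoc, comp_app_eq_zero (kernel.condition _),
        zero_comp]
    obtain ⟨T, π, hπ, x, hx⟩ := levelExact_of_gr_exact f g w h p _ _ h0
    rw [← cancel_epi π, NatTrans.comp_app, ← Category.assoc, ← hx, Category.assoc,
      comp_app_eq_zero (congrArg InducedCategory.Hom.hom hψ), comp_zero]
    simp
  let ψB : B ⟶ I := ObjectProperty.homMk (Abelian.epiDesc e ψ.hom hker)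
  have hs : StrictR mB.hom := by
    intro p q hpq T x z hxz
    obtain ⟨T₁, π₁, hπ₁, y, hy⟩ := surjective_up_to_refinements_of_epi (e.app (op p)) x
    have h1 : y ≫ g.hom.app (op p) = (π₁ ≫ z) ≫ res Z.obj hpq := by
      rw [← hem', ← Category.assoc, ← hy, Category.assoc, Category.assoc]
      exact congrArg (π₁ ≫ ·) hxz
    obtain ⟨T₂, π₂, hπ₂, y', hy'⟩ := strictR_snd_of_gr_exact f g w h p q hpq T₁ y (π₁ ≫ z) h1
    refine ⟨T₂, π₂ ≫ π₁, by infer_instance, y' ≫ e.app (op q), ?_⟩
    change (y' ≫ e.app (op q)) ≫ m.app (op q) = (π₂ ≫ π₁) ≫ z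
    rw [Category.assoc, hem', hy', Category.assoc]
  haveI : ∀ k, Mono (mB.hom.app k) := fun k => inferInstanceAs (Mono (m.app k))
  obtain ⟨k, hk⟩ := exists_desc_filteredInjective mB ψB hs hI
  refine ⟨k, ObjectProperty.hom_ext _ ?_⟩
  have hk' : m ≫ k.hom = Abelian.epiDesc e ψ.hom hker := congrArg InducedCategory.Hom.hom hk
  rw [ObjectProperty.FullSubcategory.comp_hom]
  refine (congrArg (· ≫ k.hom) hem).symm.trans ?_
  rw [Category.assoc, hk', Abelian.comp_epiDesc]

lemma grSC_exact_of_acyclic {K : CochainComplex (FilD.FilF A) ℤ} (hK : FilD.IsFilteredAcyclic K)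
    (l m n : ℤ) (hl : l + 1 = m) (hm : m + 1 = n) (p : ℤ) :
    (grSC (K.d l m).hom (K.d m n).hom
      (congrArg InducedCategory.Hom.hom (K.d_comp_d l m n)) p).Exact :=
  (((FilD.grCx p).obj K).exactAt_iff' l m n (by simp; omega) (by simp; omega)).1 (hK p m)

lemma isZero_X_of_lt {I : CochainComplex (FilD.FilF A) ℤ} (a : ℤ) [I.IsStrictlyGE a] {n : ℤ}
    (hn : n < a) : IsZero (I.X n) :=
  CochainComplex.isZero_of_isStrictlyGE I a n hn

/-- Morphisms from a filtered acyclic complex to a bounded below complex of filtered injective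
objects are null-homotopic. -/
theorem nonempty_homotopy_zero {K I : CochainComplex (FilD.FilF A) ℤ}
    (hK : FilD.IsFilteredAcyclic K) (a : ℤ) [I.IsStrictlyGE a]
    (hI : ∀ n, FilD.IsFilteredInjective (I.X n)) (φ : K ⟶ I) : Nonempty (Homotopy φ 0) := by
  classical
  let St (n : ℤ) := {h : ∀ i, K.X n ⟶ I.X i //
    (∀ i, i + 1 ≠ n → h i = 0) ∧ ∀ l i, l + 1 = n → i + 1 = n →
      K.d l n ≫ (φ.f n - h i ≫ I.d i n) = 0}
  have step : ∀ (m n : ℤ), m + 1 = n → ∀ s : St m, ∃ t : St n,
      ∀ l, l + 1 = m → φ.f m = s.1 l ≫ I.d l m + K.d m n ≫ t.1 m := by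
    intro m n hmn s
    obtain ⟨k, hk⟩ := exists_factor (K.d (m - 1) m) (K.d m n) _
      (grSC_exact_of_acyclic hK (m - 1) m n (by omega) hmn) (hI m)
      (φ.f m - s.1 (m - 1) ≫ I.d (m - 1) m) (s.2.2 (m - 1) (m - 1) (by omega) (by omega))
    refine ⟨⟨fun i => if hi : m = i then k ≫ (I.XIsoOfEq hi).hom else 0,
      fun i hi => dif_neg (by omega), fun l i hl hi => ?_⟩, fun l hl => ?_⟩
    · obtain rfl : l = m := by omega
      obtain rfl : i = l := by omega
      dsimp only
      rw [dif_pos rfl, Preadditive.comp_sub, ← φ.comm]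
      simp only [HomologicalComplex.XIsoOfEq_rfl, Iso.refl_hom, Category.comp_id]
      rw [← Category.assoc, hk, Preadditive.sub_comp, Category.assoc, I.d_comp_d, comp_zero,
        sub_zero, sub_self]
    · obtain rfl : l = m - 1 := by omega
      dsimp only
      rw [dif_pos rfl]
      simp only [HomologicalComplex.XIsoOfEq_rfl, Iso.refl_hom, Category.comp_id]
      rw [hk, add_sub_cancel]
  choose stp hstp using step
  have base : ∀ n, n < a → St n := fun n hn =>
    ⟨fun _ => 0, fun _ _ => rfl, fun _ _ _ _ => (isZero_X_of_lt (I := I) a hn).eq_of_tgt _ _⟩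
  let R : ∀ (k : ℕ) (n : ℤ), n < a + k → St n := fun k => Nat.rec
    (fun n hn => base n (by simp at hn; exact hn))
    (fun k ih n hn => if h : n < a then base n h
      else stp (n - 1) n (by omega) (ih (n - 1) (by push_cast at hn; omega))) k
  let S (n : ℤ) : St n := R (n + 1 - a).toNat n (by omega)
  have R_congr : ∀ (k k' : ℕ) (n : ℤ) (h : n < a + k) (h' : n < a + k'), k = k' →
      R k n h = R k' n h' := by
    intro k k' n h h' e; subst e; rfl
  have hS : ∀ n, ¬ n < a → S n = stp (n - 1) n (by omega) (S (n - 1)) := by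
    intro n hn
    obtain ⟨k, hk⟩ : ∃ k : ℕ, (n + 1 - a).toNat = k + 1 := ⟨(n + 1 - a).toNat - 1, by omega⟩
    simp only [S]
    rw [R_congr _ (k + 1) n _ (by omega) hk,
      R_congr (n - 1 + 1 - a).toNat k (n - 1) _ (by omega) (by omega)]
    exact dif_neg hn
  refine ⟨{ hom := fun n i => (S n).1 i, zero := fun n i h => (S n).2.1 i h, comm := fun n => ?_ }⟩
  rw [dNext_eq _ (show (ComplexShape.up ℤ).Rel n (n + 1) from rfl),
    prevD_eq _ (show (ComplexShape.up ℤ).Rel (n - 1) n by simp)]
  simp only [HomologicalComplex.zero_f, add_zero]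
  by_cases hn : n < a
  · exact (isZero_X_of_lt (I := I) a hn).eq_of_tgt _ _
  · have h := hstp n (n + 1) rfl (S n) (n - 1) (by omega)
    refine h.trans ?_
    rw [add_comm]
    congr 3
    rw [hS (n + 1) (by omega)]
    congr! 3; omega

end Groth.Agent.FilDLib
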