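import Groth.Agent.FilDLib.Triang

/-!
# Filtered injective resolutions of bounded below filtered complexes
-/

universe v u

open CategoryTheory CategoryTheory.Limits Opposite

namespace Groth.Agent.FilDLib

variable {A : Type u} [Category.{v} A] [Abelian A]

lemma isZero_gr_of_isZero {X : FilD.FilF A} (hX : IsZero X) (p : ℤ) :
    IsZero ((FilD.grF A p).obj X) := by
  rw [IsZero.iff_id_eq_zero, ← (FilD.grF A p).map_id, hX.eq_of_src (𝟙 X) 0, Functor.map_zero]

lemma epi_gr_map {X Y : FilD.FilF A} (f : X ⟶ Y) (p : ℤ) [Epi (f.hom.app (op p))] :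
    Epi ((FilD.grF A p).map f) := by
  have : Epi (grπ X.obj p ≫ (FilD.gr A p).map f.hom) := by
    rw [grπ_naturality]; exact epi_comp _ _
  exact @epi_of_epi _ _ _ _ _ (grπ X.obj p) ((FilD.gr A p).map f.hom) this

section Gr

variable (X Y : FilD.FilF A) (p : ℤ)

lemma gr_inl_fst : (FilD.grF A p).map (biprod.inl : X ⟶ X ⊞ Y) ≫
    (FilD.grF A p).map biprod.fst = 𝟙 ((FilD.grF A p).obj X) := by
  rw [← Functor.map_comp, biprod.inl_fst]; exact (FilD.grF A p).map_id X

lemma gr_inr_snd : (FilD.grF A p).map (biprod.inr : Y ⟶ X ⊞ Y) ≫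
    (FilD.grF A p).map biprod.snd = 𝟙 ((FilD.grF A p).obj Y) := by
  rw [← Functor.map_comp, biprod.inr_snd]; exact (FilD.grF A p).map_id Y

lemma gr_inl_snd : (FilD.grF A p).map (biprod.inl : X ⟶ X ⊞ Y) ≫
    (FilD.grF A p).map biprod.snd = 0 := by
  rw [← Functor.map_comp, biprod.inl_snd, Functor.map_zero]

lemma gr_inr_fst : (FilD.grF A p).map (biprod.inr : Y ⟶ X ⊞ Y) ≫
    (FilD.grF A p).map biprod.fst = 0 := by
  rw [← Functor.map_comp, biprod.inr_fst, Functor.map_zero]

end Gr

section Step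

variable {P I N : FilD.FilF A} (u : P ⟶ I) (f : P ⟶ N)

/-- A pushout of a strict monomorphism in finite filtered objects, with exact graded pieces. -/
theorem exists_pushout (hu : ∀ p, Mono ((FilD.grF A p).map u)) :
    ∃ (Q : FilD.FilF A) (k : N ⟶ Q) (j : I ⟶ Q), f ≫ k = u ≫ j ∧
      (∀ p, Mono ((FilD.grF A p).map k)) ∧
      (∀ (T : FilD.FilF A) (a : N ⟶ T) (b : I ⟶ T), f ≫ a = u ≫ b →
        ∃ c : Q ⟶ T, k ≫ c = a ∧ j ≫ c = b) ∧
      (∀ (p : ℤ) (T : A) (t : T ⟶ (FilD.grF A p).obj Q), ∃ (T' : A) (π : T' ⟶ T) (_ : Epi π)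
        (a : T' ⟶ (FilD.grF A p).obj N) (i : T' ⟶ (FilD.grF A p).obj I),
          π ≫ t = a ≫ (FilD.grF A p).map k + i ≫ (FilD.grF A p).map j) ∧
      (∀ (p : ℤ) (T : A) (a : T ⟶ (FilD.grF A p).obj N) (i : T ⟶ (FilD.grF A p).obj I),
        a ≫ (FilD.grF A p).map k + i ≫ (FilD.grF A p).map j = 0 →
          ∃ (T' : A) (π : T' ⟶ T) (_ : Epi π) (x : T' ⟶ (FilD.grF A p).obj P),
            π ≫ a = x ≫ (FilD.grF A p).map f ∧ π ≫ i = -(x ≫ (FilD.grF A p).map u)) := by
  let v : P ⟶ N ⊞ I := biprod.lift f (-u)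
  have hv : ∀ p, Mono ((FilD.gr A p).map v.hom) := fun p => by
    haveI := hu p
    have hvs : (FilD.grF A p).map v ≫ (FilD.grF A p).map biprod.snd =
        -(FilD.grF A p).map u := by
      rw [← Functor.map_comp, biprod.lift_snd, Functor.map_neg]
    haveI : Mono (-(FilD.grF A p).map u) :=
      Preadditive.mono_of_cancel_zero _ fun {T} x hx => zero_of_comp_mono ((FilD.grF A p).map u)
        (by simpa using hx)
    have h : Mono ((FilD.grF A p).map v ≫ (FilD.grF A p).map biprod.snd) := by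
      rw [hvs]; infer_instance
    exact mono_of_mono ((FilD.grF A p).map v) ((FilD.grF A p).map biprod.snd)
  have hvsnd : ∀ p, (FilD.grF A p).map v ≫ (FilD.grF A p).map biprod.snd =
      -(FilD.grF A p).map u := fun p => by
    rw [← Functor.map_comp, biprod.lift_snd, Functor.map_neg]
  have hvfst : ∀ p, (FilD.grF A p).map v ≫ (FilD.grF A p).map biprod.fst =
      (FilD.grF A p).map f := fun p => by
    rw [← Functor.map_comp, biprod.lift_fst]
  let Q : FilD.FilF A := ⟨cokernel v.hom, isFinFil_cokernel v (strictR_of_mono_gr v hv)⟩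
  let q : N ⊞ I ⟶ Q := ObjectProperty.homMk (cokernel.π v.hom)
  have hvq : v ≫ q = 0 := ObjectProperty.hom_ext _ (cokernel.condition _)
  haveI : ∀ p : ℤ, Epi (q.hom.app (op p)) := fun p =>
    inferInstanceAs (Epi ((cokernel.π v.hom).app (op p)))
  have hex : ∀ p, (grSC v.hom q.hom (cokernel.condition _) p).Exact := fun p => by
    refine gr_exact (Z := Q) v.hom q.hom _ (fun r T y hy => ?_) (fun r T x y _ => ?_) p
    · have hex : (ShortComplex.mk (v.hom.app (op r)) ((cokernel.π v.hom).app (op r))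
          (comp_app_eq_zero (cokernel.condition _) _)).Exact :=
        (ShortComplex.exact_of_g_is_cokernel (ShortComplex.mk v.hom (cokernel.π v.hom)
          (cokernel.condition _)) (cokernelIsCokernel v.hom)).map ((evaluation ℤᵒᵖ A).obj (op r))
      obtain ⟨T', π, hπ, x, hx⟩ := hex.exact_up_to_refinements y hy
      exact ⟨T', π, hπ, x, hx.symm⟩
    · obtain ⟨T', π, hπ, x', hx'⟩ := surjective_up_to_refinements_of_epi (q.hom.app (op (r + 1))) y
      exact ⟨T', π, hπ, x', hx'.symm⟩
  have hvf : v ≫ biprod.fst = f := biprod.lift_fst _ _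
  have hrel : f ≫ biprod.inl ≫ q = u ≫ biprod.inr ≫ q := by
    have : v = f ≫ biprod.inl - u ≫ biprod.inr := by
      apply biprod.hom_ext <;> simp [v]
    rw [this, Preadditive.sub_comp, sub_eq_zero] at hvq
    simpa using hvq
  refine ⟨Q, biprod.inl ≫ q, biprod.inr ≫ q, hrel, fun p => ?_, fun T a b hab => ?_,
    fun p T t => ?_, fun p T a i hai => ?_⟩
  · refine Preadditive.mono_of_cancel_zero _ fun {T} a ha => ?_
    have h0 : (a ≫ (FilD.grF A p).map biprod.inl) ≫ (FilD.grF A p).map q = 0 := by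
      rw [Category.assoc, ← Functor.map_comp, ha]
    obtain ⟨T', π, hπ, (x : T' ⟶ (FilD.grF A p).obj P), hx⟩ :=
      (hex p).exact_up_to_refinements _ h0
    change π ≫ a ≫ (FilD.grF A p).map biprod.inl = x ≫ (FilD.grF A p).map v at hx
    have hs := congrArg (· ≫ (FilD.grF A p).map biprod.snd) hx
    simp only [Category.assoc, hvsnd p, gr_inl_snd, comp_zero, Preadditive.comp_neg] at hs
    haveI := hu p
    have hx0 : x = 0 := zero_of_comp_mono ((FilD.grF A p).map u) (neg_eq_zero.1 hs.symm)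
    have hf' := congrArg (· ≫ (FilD.grF A p).map biprod.fst) hx
    simp only [Category.assoc, hx0, zero_comp, gr_inl_fst, Category.comp_id] at hf'
    rw [← cancel_epi π, comp_zero, hf']
  · have h0 : v ≫ biprod.desc a b = 0 := by
      simp [v, hab]
    let c : Q ⟶ T := ObjectProperty.homMk (cokernel.desc v.hom (biprod.desc a b).hom
      (congrArg InducedCategory.Hom.hom h0))
    have hc : q ≫ c = biprod.desc a b := ObjectProperty.hom_ext _ (cokernel.π_desc _ _ _)
    exact ⟨c, by rw [Category.assoc, hc, biprod.inl_desc],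
      by rw [Category.assoc, hc, biprod.inr_desc]⟩
  · haveI := epi_gr_map q p
    obtain ⟨T', π, hπ, s, hs⟩ := surjective_up_to_refinements_of_epi ((FilD.grF A p).map q) t
    refine ⟨T', π, hπ, s ≫ (FilD.grF A p).map biprod.fst, s ≫ (FilD.grF A p).map biprod.snd, ?_⟩
    rw [hs, Category.assoc, Category.assoc, ← Functor.map_comp, ← Functor.map_comp,
      ← Preadditive.comp_add, ← Functor.map_add, ← Category.assoc biprod.fst,
      ← Category.assoc biprod.snd, ← Preadditive.add_comp, biprod.total, Category.id_comp]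
  · have h0 : (a ≫ (FilD.grF A p).map biprod.inl + i ≫ (FilD.grF A p).map biprod.inr) ≫
        (FilD.grF A p).map q = 0 := by
      rw [Preadditive.add_comp, Category.assoc, Category.assoc, ← Functor.map_comp,
        ← Functor.map_comp, hai]
    obtain ⟨T', π, hπ, (x : T' ⟶ (FilD.grF A p).obj P), hx⟩ :=
      (hex p).exact_up_to_refinements _ h0
    change π ≫ (a ≫ _ + i ≫ _) = x ≫ (FilD.grF A p).map v at hx
    refine ⟨T', π, hπ, x, ?_, ?_⟩
    · have hs := congrArg (· ≫ (FilD.grF A p).map biprod.fst) hx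
      simp only [Category.assoc, Preadditive.add_comp, gr_inl_fst, gr_inr_fst, hvfst p,
        Category.comp_id, comp_zero, add_zero] at hs
      exact hs
    · have hs := congrArg (· ≫ (FilD.grF A p).map biprod.snd) hx
      simp only [Category.assoc, Preadditive.add_comp, gr_inl_snd, gr_inr_snd, hvsnd p,
        Category.comp_id, comp_zero, zero_add, Preadditive.comp_neg] at hs
      exact hs

end Step

variable (K : CochainComplex (FilD.FilF A) ℤ)

/-- A partial resolution in degree `n`. -/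
structure St (n : ℤ) where
  /-- the pushed forward `n`-th object -/
  P : FilD.FilF A
  /-- the comparison map -/
  k : K.X n ⟶ P
  /-- the induced differential -/
  dbar : ∀ i : ℤ, P ⟶ K.X i
  k_dbar : ∀ i, k ≫ dbar i = K.d n i
  dbar_d : ∀ i l, dbar i ≫ K.d i l = 0
  mono_k : ∀ p, Mono ((FilD.grF A p).map k)
  /-- the injective object in degree `n` -/
  I : FilD.FilF A
  /-- the chosen strict monomorphism -/
  u : P ⟶ I
  hI : FilD.IsFilteredInjective I
  hu : ∀ p, Mono ((FilD.grF A p).map u)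

/-- The relations between consecutive partial resolutions. -/
def Link (m n : ℤ) (s : St K m) (t : St K n) (j : s.I ⟶ t.P) : Prop :=
  s.dbar n ≫ t.k = s.u ≫ j ∧ (∀ i, j ≫ t.dbar i = 0) ∧
    (∀ (p : ℤ) (T : A) (y : T ⟶ (FilD.grF A p).obj t.P), ∃ (T' : A) (π : T' ⟶ T) (_ : Epi π)
      (a : T' ⟶ (FilD.grF A p).obj (K.X n)) (i : T' ⟶ (FilD.grF A p).obj s.I),
        π ≫ y = a ≫ (FilD.grF A p).map t.k + i ≫ (FilD.grF A p).map j) ∧
    (∀ (p : ℤ) (T : A) (a : T ⟶ (FilD.grF A p).obj (K.X n)) (i : T ⟶ (FilD.grF A p).obj s.I),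
      a ≫ (FilD.grF A p).map t.k + i ≫ (FilD.grF A p).map j = 0 →
        ∃ (T' : A) (π : T' ⟶ T) (_ : Epi π) (x : T' ⟶ (FilD.grF A p).obj s.P),
          π ≫ a = x ≫ (FilD.grF A p).map (s.dbar n) ∧
            π ≫ i = -(x ≫ (FilD.grF A p).map s.u))

variable [EnoughInjectives A] (a : ℤ) [K.IsStrictlyGE a]

lemma exists_link_step (m n : ℤ) (s : St K m) :
    ∃ (t : St K n) (j : s.I ⟶ t.P), Link K m n s t j := by
  obtain ⟨Q, k, j, hrel, hk, hdesc, h1, h2⟩ := exists_pushout s.u (s.dbar n) s.hu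
  choose db hdb hdb' using fun i => hdesc (K.X i) (K.d n i) 0 (by rw [s.dbar_d, comp_zero])
  obtain ⟨I, u, hI, hmu, hsu⟩ := exists_strictMono_filteredInjective Q
  haveI := hmu
  refine ⟨⟨Q, k, db, hdb, fun i l => ?_, hk, I, u, hI, mono_gr_of_strictMono u hsu⟩, j,
    hrel, hdb', h1, h2⟩
  -- `db ≫ d` vanishes on both generators
  have hz : ∀ (T : FilD.FilF A) (g : Q ⟶ T), k ≫ g = 0 → j ≫ g = 0 → g = 0 := by
    intro T g hg hg'
    refine ObjectProperty.hom_ext _ ?_
    ext ⟨p⟩
    refine descend (P := fun p => g.hom.app (op p) = 0) ?_ (fun p ih => ?_) p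
    · obtain ⟨b, hb⟩ := exists_isZero Q
      exact ⟨b, fun p hp => (hb p hp).eq_of_src _ _⟩
    · obtain ⟨T₁, π₁, hπ₁, a', i', hy⟩ := h1 p _ (grπ Q.obj p)
      obtain ⟨T₂, π₂, hπ₂, a₂, ha₂⟩ := exists_lift_gr (F := (K.X n).obj) (p := p) a'
      obtain ⟨T₃, π₃, hπ₃, i₃, hi₃⟩ := exists_lift_gr (F := s.I.obj) (p := p) (π₂ ≫ i')
      let z := π₃ ≫ π₂ ≫ π₁ - (π₃ ≫ a₂) ≫ k.hom.app (op p) - i₃ ≫ j.hom.app (op p)
      have hz : z ≫ grπ Q.obj p = 0 := by
        simp only [z, Preadditive.sub_comp, Category.assoc, ← grπ_naturality]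
        rw [← reassoc_of% ha₂, ← reassoc_of% hi₃]
        change π₁ ≫ grπ Q.obj p =
          a' ≫ (FilD.gr A p).map k.hom + i' ≫ (FilD.gr A p).map j.hom at hy
        rw [hy, Preadditive.comp_add, Preadditive.comp_add]
        abel
      obtain ⟨z', hz'⟩ := exists_res_of_grπ_eq_zero Q z hz
      have h3 : z ≫ g.hom.app (op p) = (π₃ ≫ π₂ ≫ π₁) ≫ g.hom.app (op p) := by
        simp only [z, Preadditive.sub_comp, Category.assoc]
        rw [comp_app_eq_zero (congrArg InducedCategory.Hom.hom hg),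
          comp_app_eq_zero (congrArg InducedCategory.Hom.hom hg')]
        simp
      rw [← cancel_epi (π₃ ≫ π₂ ≫ π₁), comp_zero, ← h3, ← hz', Category.assoc, res_naturality,
        ih, zero_comp, comp_zero]
  exact hz _ _ (by rw [reassoc_of% (hdb i), K.d_comp_d]) (by rw [reassoc_of% (hdb' i), zero_comp])

/-- Filtered injective resolutions exist, with the same bound. -/
theorem exists_resolution :
    ∃ (I : CochainComplex (FilD.FilF A) ℤ) (φ : K ⟶ I), I.IsStrictlyGE a ∧
      (∀ n, FilD.IsFilteredInjective (I.X n)) ∧ FilD.IsFilteredQuasiIso φ ∧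
        ∀ n, Mono (φ.f n) ∧ FilD.IsStrict (φ.f n) := by
  classical
  choose stp jst hlink using fun m n s => exists_link_step K m n s
  have hK0 : ∀ n, n < a → IsZero (K.X n) := fun n hn => K.isZero_of_isStrictlyGE a n hn
  let base : ∀ n, n < a → St K n := fun n hn =>
    { P := K.X n, k := 𝟙 _, dbar := fun i => K.d n i
      k_dbar := fun i => Category.id_comp _
      dbar_d := fun i l => K.d_comp_d _ _ _
      mono_k := fun p => (isZero_gr_of_isZero (hK0 n hn) p).mono _
      I := K.X n, u := 𝟙 _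
      hI := fun p => injective_of_isZero (isZero_gr_of_isZero (hK0 n hn) p)
      hu := fun p => (isZero_gr_of_isZero (hK0 n hn) p).mono _ }
  let R : ∀ (k : ℕ) (n : ℤ), n < a + k → St K n := fun k => Nat.rec
    (fun n hn => base n (by simp at hn; exact hn))
    (fun k ih n hn => if h : n < a then base n h
      else stp (n - 1) n (ih (n - 1) (by push_cast at hn; omega))) k
  let S (n : ℤ) : St K n := R (n + 1 - a).toNat n (by omega)
  have R_congr : ∀ (k k' : ℕ) (n : ℤ) (h : n < a + k) (h' : n < a + k'), k = k' →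
      R k n h = R k' n h' := by
    intro k k' n h h' e; subst e; rfl
  have hS : ∀ n, ¬ n < a → S n = stp (n - 1) n (S (n - 1)) := by
    intro n hn
    obtain ⟨k, hk⟩ : ∃ k : ℕ, (n + 1 - a).toNat = k + 1 := ⟨(n + 1 - a).toNat - 1, by omega⟩
    simp only [S]
    rw [R_congr _ (k + 1) n _ (by omega) hk,
      R_congr (n - 1 + 1 - a).toNat k (n - 1) _ (by omega) (by omega)]
    exact dif_neg hn
  have hS0 : ∀ n, n < a → IsZero (S n).P ∧ IsZero (S n).I := by
    intro n hn
    simp only [S]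
    rw [R_congr _ 0 n _ (by simpa using hn) (by omega)]
    exact ⟨hK0 n hn, hK0 n hn⟩
  have hJ : ∀ m n : ℤ, ∃ j : (S m).I ⟶ (S n).P, m + 1 = n → Link K m n (S m) (S n) j := by
    intro m n
    by_cases h : m + 1 = n
    · by_cases hn : n < a
      · refine ⟨0, fun _ => ⟨(hS0 n hn).1.eq_of_tgt _ _, fun i => zero_comp, fun p T y => ?_,
          fun p T x i _ => ?_⟩⟩
        · exact ⟨T, 𝟙 T, inferInstance, 0, 0, (isZero_gr_of_isZero (hS0 n hn).1 p).eq_of_tgt _ _⟩
        · exact ⟨T, 𝟙 T, inferInstance, 0, (isZero_gr_of_isZero (hK0 n hn) p).eq_of_tgt _ _,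
            (isZero_gr_of_isZero (hS0 m (by omega)).2 p).eq_of_tgt _ _⟩
      · obtain rfl : m = n - 1 := by omega
        rw [hS n hn]
        exact ⟨jst _ n _, fun _ => hlink _ n _⟩
    · exact ⟨0, fun h' => absurd h' h⟩
  choose J hJ using hJ
  let dI (m n : ℤ) : (S m).I ⟶ (S n).I := if m + 1 = n then J m n ≫ (S n).u else 0
  let I : CochainComplex (FilD.FilF A) ℤ :=
    { X := fun n => (S n).I
      d := dI
      shape := fun m n h => if_neg h
      d_comp_d' := fun l m n (h : l + 1 = m) (h' : m + 1 = n) => by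
        simp only [dI, if_pos h, if_pos h', Category.assoc]
        rw [← reassoc_of% (hJ m n h').1, reassoc_of% ((hJ l m h).2.1 n), zero_comp] }
  let φ : K ⟶ I :=
    { f := fun n => (S n).k ≫ (S n).u
      comm' := fun m n (h : m + 1 = n) => by
        change ((S m).k ≫ (S m).u) ≫ dI m n = K.d m n ≫ (S n).k ≫ (S n).u
        simp only [dI, if_pos h, Category.assoc]
        rw [← reassoc_of% (hJ m n h).1, reassoc_of% ((S m).k_dbar n)] }
  have hmono : ∀ n p, Mono ((FilD.grF A p).map (φ.f n)) := fun n p => by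
    haveI := (S n).mono_k p
    haveI := (S n).hu p
    rw [show φ.f n = (S n).k ≫ (S n).u from rfl, Functor.map_comp]
    exact mono_comp _ _
  refine ⟨I, φ, ?_, fun n => (S n).hI, ?_, fun n => strictMono_of_mono_gr (φ.f n) (hmono n)⟩
  · rw [CochainComplex.isStrictlyGE_iff]
    exact fun n hn => (hS0 n hn).2
  · intro p
    rw [quasiIso_iff]
    intro n
    rw [quasiIsoAt_iff_isIso_homologyMap]
    have hd : I.d (n - 1) n = J (n - 1) n ≫ (S n).u := if_pos (by omega)
    have hd' : I.d n (n + 1) = J n (n + 1) ≫ (S (n + 1)).u := if_pos rfl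
    obtain ⟨hr, -, hE1, hE2⟩ := hJ (n - 1) n (by omega)
    obtain ⟨hr', hdb', hE1', hE2'⟩ := hJ n (n + 1) rfl
    haveI := (S n).hu p
    haveI := (S (n + 1)).hu p
    haveI : Mono (HomologicalComplex.homologyMap ((FilD.grCx p).map φ) n) := by
      rw [HomologicalComplex.mono_homologyMap_iff_up_to_refinements _ (n - 1) n (n + 1) (by simp)
        (by simp)]
      intro T (x : T ⟶ (FilD.grF A p).obj (K.X n)) hx
        (y : T ⟶ (FilD.grF A p).obj (S (n - 1)).I) hy
      change x ≫ (FilD.grF A p).map (φ.f n) = y ≫ (FilD.grF A p).map (I.d (n - 1) n) at hy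
      rw [show φ.f n = (S n).k ≫ (S n).u from rfl, hd, Functor.map_comp, Functor.map_comp,
        ← Category.assoc, ← Category.assoc, cancel_mono] at hy
      obtain ⟨T', π, hπ, z, hz, hz'⟩ := hE2 p T x (-y) (by rw [hy]; simp)
      obtain ⟨T'', π', hπ', a', i', hy'⟩ := (hJ (n - 2) (n - 1) (by omega)).2.2.1 p T' z
      refine ⟨T'', π' ≫ π, by infer_instance, a', ?_⟩
      change (π' ≫ π) ≫ x = a' ≫ (FilD.grF A p).map (K.d (n - 1) n)
      have e1 : (FilD.grF A p).map (S (n - 1)).k ≫ (FilD.grF A p).map ((S (n - 1)).dbar n) =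
          (FilD.grF A p).map (K.d (n - 1) n) := by rw [← Functor.map_comp, (S (n - 1)).k_dbar]
      have e2 : (FilD.grF A p).map (J (n - 2) (n - 1)) ≫
          (FilD.grF A p).map ((S (n - 1)).dbar n) = 0 := by
        rw [← Functor.map_comp, (hJ (n - 2) (n - 1) (by omega)).2.1, Functor.map_zero]
      rw [Category.assoc, hz, ← Category.assoc, hy', Preadditive.add_comp, Category.assoc,
        Category.assoc, e1, e2, comp_zero, add_zero]
    haveI : Epi (HomologicalComplex.homologyMap ((FilD.grCx p).map φ) n) := by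
      rw [HomologicalComplex.epi_homologyMap_iff_up_to_refinements _ (n - 1) n (n + 1) (by simp)
        (by simp)]
      intro T (y : T ⟶ (FilD.grF A p).obj (S n).I) hy
      change y ≫ (FilD.grF A p).map (I.d n (n + 1)) = 0 at hy
      rw [hd', Functor.map_comp, ← Category.assoc, ← zero_comp (X := T)
        (f := (FilD.grF A p).map (S (n + 1)).u), cancel_mono] at hy
      obtain ⟨T', π, hπ, x, hx0, hx1⟩ := hE2' p T 0 y (by rw [zero_comp, zero_add]; exact hy)
      rw [comp_zero] at hx0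
      obtain ⟨T'', π', hπ', a', i', hy'⟩ := hE1 p T' x
      have ha' : a' ≫ (FilD.grF A p).map (K.d n (n + 1)) = 0 := by
        rw [← (S n).k_dbar (n + 1), Functor.map_comp, ← Category.assoc,
          show a' ≫ (FilD.grF A p).map (S n).k =
            π' ≫ x - i' ≫ (FilD.grF A p).map (J (n - 1) n) by rw [hy']; abel,
          Preadditive.sub_comp, Category.assoc, ← hx0, comp_zero, Category.assoc,
          ← Functor.map_comp, (hJ (n - 1) n (by omega)).2.1, Functor.map_zero, comp_zero, sub_zero]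
      refine ⟨T'', π' ≫ π, by infer_instance, -a', ?_, -i', ?_⟩
      · change (-a') ≫ (FilD.grF A p).map (K.d n (n + 1)) = 0
        rw [Preadditive.neg_comp, ha', neg_zero]
      · change (π' ≫ π) ≫ y = (-a') ≫ (FilD.grF A p).map (φ.f n) +
          (-i') ≫ (FilD.grF A p).map (I.d (n - 1) n)
        rw [Category.assoc, hx1, show φ.f n = (S n).k ≫ (S n).u from rfl, hd, Preadditive.comp_neg,
          reassoc_of% hy', Functor.map_comp, Functor.map_comp]
        simp only [Preadditive.neg_comp, Preadditive.add_comp, Category.assoc]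
        abel
    exact isIso_of_mono_of_epi _

end Groth.Agent.FilDLib
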