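import Groth.Agent.FilDLib.Trunc
import Mathlib.Algebra.Homology.HomotopyCategory.SingleFunctors

/-!
# Maps out of filtered injective resolutions of single objects
-/

universe v u

open CategoryTheory CategoryTheory.Limits Opposite

namespace Groth.Agent.FilDLib

variable {A : Type u} [Category.{v} A] [Abelian A]

/-- The identification `X ⟶ X[0]⁰`. -/
noncomputable abbrev sgl (X : FilD.FilF A) :
    X ⟶ ((CochainComplex.singleFunctor (FilD.FilF A) 0).obj X).X 0 :=
  (HomologicalComplex.singleObjXSelf (ComplexShape.up ℤ) 0 X).inv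

/-- A chain map out of a single object. -/
noncomputable def fromSgl {X : FilD.FilF A} {L : CochainComplex (FilD.FilF A) ℤ} (g : X ⟶ L.X 0)
    (hg : g ≫ L.d 0 1 = 0) : (CochainComplex.singleFunctor (FilD.FilF A) 0).obj X ⟶ L :=
  HomologicalComplex.mkHomFromSingle g (fun k (hk : 0 + 1 = k) => by
    obtain rfl : k = 1 := by omega
    exact hg)

lemma sgl_fromSgl {X : FilD.FilF A} {L : CochainComplex (FilD.FilF A) ℤ} (g : X ⟶ L.X 0)
    (hg : g ≫ L.d 0 1 = 0) : sgl X ≫ (fromSgl g hg).f 0 = g := by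
  simp [sgl, fromSgl]
  exact Iso.inv_hom_id_assoc _ _

@[reassoc]
lemma sgl_map {X Y : FilD.FilF A} (f : X ⟶ Y) :
    sgl X ≫ ((CochainComplex.singleFunctor (FilD.FilF A) 0).map f).f 0 = f ≫ sgl Y := by
  simp [sgl, CochainComplex.singleFunctor, CochainComplex.singleFunctors,
    HomologicalComplex.single_map_f_self]

lemma sgl_cycle {X : FilD.FilF A} {L : CochainComplex (FilD.FilF A) ℤ}
    (c : (CochainComplex.singleFunctor (FilD.FilF A) 0).obj X ⟶ L) :
    (sgl X ≫ c.f 0) ≫ L.d 0 1 = 0 := by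
  rw [Category.assoc, c.comm 0 1, CochainComplex.singleFunctor_obj_d, zero_comp, comp_zero]

lemma hom_ext_sgl {X : FilD.FilF A} {L : CochainComplex (FilD.FilF A) ℤ}
    {c c' : (CochainComplex.singleFunctor (FilD.FilF A) 0).obj X ⟶ L}
    (h : sgl X ≫ c.f 0 = sgl X ≫ c'.f 0) : c = c' :=
  HomologicalComplex.from_single_hom_ext ((cancel_epi (sgl X)).1 h)

/-- Extension of a map out of a single object along a filtered quasi-isomorphism, up to a
homotopy in degree `0`. -/
theorem exists_extend {X : FilD.FilF A} {L : CochainComplex (FilD.FilF A) ℤ}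
    (c : (CochainComplex.singleFunctor (FilD.FilF A) 0).obj X ⟶ L)
    (hc : FilD.IsFilteredQuasiIso c) (I : CochainComplex (FilD.FilF A) ℤ) (a : ℤ)
    [I.IsStrictlyGE a] (hI : ∀ n, FilD.IsFilteredInjective (I.X n))
    (γ : (CochainComplex.singleFunctor (FilD.FilF A) 0).obj X ⟶ I) :
    ∃ (θ : L ⟶ I) (k : X ⟶ I.X (-1)),
      sgl X ≫ c.f 0 ≫ θ.f 0 = k ≫ I.d (-1) 0 + sgl X ≫ γ.f 0 := by
  obtain ⟨θ', hθ⟩ := (precomp_bijective I a hI c hc).2 ((HomotopyCategory.quotient _ _).map γ)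
  obtain ⟨θ, rfl⟩ := (HomotopyCategory.quotient _ _).map_surjective θ'
  let h := HomotopyCategory.homotopyOfEq (c ≫ θ) γ (by rw [Functor.map_comp]; exact hθ)
  have h0 := h.comm 0
  rw [dNext_eq _ (show (ComplexShape.up ℤ).Rel 0 1 from rfl),
    prevD_eq _ (show (ComplexShape.up ℤ).Rel (-1) 0 from rfl),
    CochainComplex.singleFunctor_obj_d, zero_comp, zero_add] at h0
  refine ⟨θ, sgl X ≫ h.hom 0 (-1), ?_⟩
  rw [← HomologicalComplex.comp_f, h0, Preadditive.comp_add, Category.assoc]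

end Groth.Agent.FilDLib
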