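import Groth.Agent.FilDLib.Resol

/-!
# Filtered truncations
-/

universe v u

open CategoryTheory CategoryTheory.Limits Opposite ZeroObject

namespace Groth.Agent.FilDLib

variable {A : Type u} [Category.{v} A] [Abelian A]

lemma isZero_app_of_isZero {X : FilD.FilF A} (hX : IsZero X) (k : ℤᵒᵖ) : IsZero (X.obj.obj k) := by
  rw [IsZero.iff_id_eq_zero]
  have h := congrArg (fun t : X ⟶ X => t.hom.app k) (hX.eq_of_src (𝟙 X) 0)
  exact h

lemma isIso_of_isZero {X Y : A} (hX : IsZero X) (hY : IsZero Y) (f : X ⟶ Y) : IsIso f :=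
  ⟨0, hX.eq_of_src _ _, hY.eq_of_src _ _⟩

lemma isZero_grCx_homology {L : CochainComplex (FilD.FilF A) ℤ} {n : ℤ} (hL : IsZero (L.X n))
    (p : ℤ) : IsZero (((FilD.grCx p).obj L).homology n) := by
  refine HomologicalComplex.ExactAt.isZero_homology ?_
  exact ShortComplex.exact_of_isZero_X₂ _ (isZero_gr_of_isZero hL p)

lemma grSC_exact_of_isZero_homology {K : CochainComplex (FilD.FilF A) ℤ} (l m n : ℤ)
    (hl : l + 1 = m) (hm : m + 1 = n) (p : ℤ)
    (h : IsZero (((FilD.grCx p).obj K).homology m)) :
    (grSC (K.d l m).hom (K.d m n).hom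
      (congrArg InducedCategory.Hom.hom (K.d_comp_d l m n)) p).Exact :=
  (((FilD.grCx p).obj K).exactAt_iff' l m n (by simp; omega) (by simp; omega)).1
    ((((FilD.grCx p).obj K).exactAt_iff_isZero_homology m).2 h)

/-- A complex with vanishing filtered cohomology below `a` is filtered quasi-isomorphic to one
concentrated in degrees `≥ a`. -/
theorem exists_to_boundedBelow (K : CochainComplex (FilD.FilF A) ℤ) (a : ℤ)
    (hK : ∀ (p n : ℤ), n < a → IsZero (((FilD.grCx p).obj K).homology n)) :
    ∃ (L : CochainComplex (FilD.FilF A) ℤ) (φ : K ⟶ L),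
      L.IsStrictlyGE a ∧ FilD.IsFilteredQuasiIso φ := by
  classical
  have hd : StrictR (K.d (a - 1) a).hom :=
    strictR_snd_of_gr_exact (K.d (a - 2) (a - 1)) (K.d (a - 1) a) _
      (fun p => grSC_exact_of_isZero_homology (a - 2) (a - 1) a (by omega) (by omega) p
        (hK p (a - 1) (by omega)))
  have key : ∀ n : ℤ, ∃ (L : FilD.FilF A) (π : K.X n ⟶ L), Epi π ∧
      (n < a → IsZero L) ∧ (∀ p, Epi ((FilD.grF A p).map π)) ∧
      (a < n → ∀ p, Mono ((FilD.grF A p).map π)) ∧
      (n = a → K.d (n - 1) n ≫ π = 0 ∧ ∀ (p : ℤ) (T : A) (x : T ⟶ (FilD.grF A p).obj (K.X n)),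
        x ≫ (FilD.grF A p).map π = 0 → ∃ (T' : A) (q : T' ⟶ T) (_ : Epi q)
          (y : T' ⟶ (FilD.grF A p).obj (K.X (n - 1))),
            q ≫ x = y ≫ (FilD.grF A p).map (K.d (n - 1) n)) ∧
      ∀ (T : FilD.FilF A) (g : K.X n ⟶ T), (n < a → g = 0) →
        (n = a → K.d (n - 1) n ≫ g = 0) → ∃ g' : L ⟶ T, π ≫ g' = g := by
    intro n
    rcases lt_trichotomy n a with hn | hn | hn
    · refine ⟨0, 0, ⟨fun g h _ => (isZero_zero _).eq_of_src _ _⟩, fun _ => isZero_zero _,
        fun p => ⟨fun g h _ => (isZero_gr_of_isZero (isZero_zero _) p).eq_of_src _ _⟩,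
        fun h => absurd h (by omega), fun h => absurd h (by omega),
        fun T g hg _ => ⟨0, by rw [hg hn, comp_zero]⟩⟩
    · subst hn
      let Q : FilD.FilF A := ⟨cokernel (K.d (n - 1) n).hom, isFinFil_cokernel _ hd⟩
      let q : K.X n ⟶ Q := ObjectProperty.homMk (cokernel.π (K.d (n - 1) n).hom)
      haveI : ∀ k, Epi (q.hom.app k) := fun k =>
        inferInstanceAs (Epi ((cokernel.π (K.d (n - 1) n).hom).app k))
      have hq : Epi q := ⟨fun g h e => ObjectProperty.hom_ext _
        ((cancel_epi (cokernel.π (K.d (n - 1) n).hom)).1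
          (congrArg InducedCategory.Hom.hom e))⟩
      refine ⟨Q, q, hq, fun h => absurd h (by omega), fun p => epi_gr_map q p,
        fun h => absurd h (by omega), fun _ => ⟨ObjectProperty.hom_ext _ (cokernel.condition _),
          fun p T x hx => ?_⟩, fun T g _ hg => ?_⟩
      · have hex : (grSC (K.d (n - 1) n).hom q.hom (cokernel.condition _) p).Exact := by
          refine gr_exact (Z := Q) _ q.hom _ (fun r U y hy => ?_) (fun r U x y _ => ?_) p
          · have hex : (ShortComplex.mk ((K.d (n - 1) n).hom.app (op r))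
                ((cokernel.π (K.d (n - 1) n).hom).app (op r))
                (comp_app_eq_zero (cokernel.condition _) _)).Exact :=
              (ShortComplex.exact_of_g_is_cokernel (ShortComplex.mk (K.d (n - 1) n).hom
                (cokernel.π (K.d (n - 1) n).hom) (cokernel.condition _))
                (cokernelIsCokernel _)).map ((evaluation ℤᵒᵖ A).obj (op r))
            obtain ⟨T', π, hπ, z, hz⟩ := hex.exact_up_to_refinements y hy
            exact ⟨T', π, hπ, z, hz.symm⟩
          · obtain ⟨T', π, hπ, x', hx'⟩ :=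
              surjective_up_to_refinements_of_epi (q.hom.app (op (r + 1))) y
            exact ⟨T', π, hπ, x', hx'.symm⟩
        exact hex.exact_up_to_refinements x hx
      · exact ⟨ObjectProperty.homMk (cokernel.desc _ g.hom
          (congrArg InducedCategory.Hom.hom (hg rfl))),
            ObjectProperty.hom_ext _ (cokernel.π_desc _ _ _)⟩
    · refine ⟨K.X n, 𝟙 _, inferInstance, fun h => absurd h (by omega), fun p => ?_, fun _ p => ?_,
        fun h => absurd h (by omega), fun T g _ _ => ⟨g, Category.id_comp _⟩⟩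
      · rw [(FilD.grF A p).map_id]; infer_instance
      · rw [(FilD.grF A p).map_id]; infer_instance
  choose L π hπ hzero hepi hmono hex hdesc using key
  have hd' : ∀ m n, m + 1 = n → ∃ d : L m ⟶ L n, π m ≫ d = K.d m n ≫ π n := fun m n h =>
    hdesc m (L n) _ (fun hm => by
      by_cases hn : n < a
      · exact (hzero n hn).eq_of_tgt _ _
      · obtain rfl : m = n - 1 := by omega
        exact (hex n (by omega)).1)
      (fun _ => by rw [HomologicalComplex.d_comp_d_assoc, zero_comp])
  choose d hd' using hd'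
  let C : CochainComplex (FilD.FilF A) ℤ :=
    { X := L
      d := fun m n => if h : m + 1 = n then d m n h else 0
      shape := fun m n h => dif_neg h
      d_comp_d' := fun l m n (h : l + 1 = m) (h' : m + 1 = n) => by
        rw [dif_pos h, dif_pos h']
        haveI := hπ l
        rw [← cancel_epi (π l), reassoc_of% (hd' l m h), hd' m n h',
          HomologicalComplex.d_comp_d_assoc, zero_comp, comp_zero] }
  have hC : ∀ m n (h : m + 1 = n), C.d m n = d m n h := fun m n h => dif_pos h
  let φ : K ⟶ C :=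
    { f := π
      comm' := fun m n (h : m + 1 = n) => by rw [hC m n h, hd' m n h] }
  refine ⟨C, φ, by rw [CochainComplex.isStrictlyGE_iff]; exact hzero, fun p => ?_⟩
  rw [quasiIso_iff]
  intro n
  rw [quasiIsoAt_iff_isIso_homologyMap]
  by_cases hn : n < a
  · exact isIso_of_isZero (hK p n hn) (isZero_grCx_homology (L := C) (hzero n hn) p) _
  haveI : Mono (HomologicalComplex.homologyMap ((FilD.grCx p).map φ) n) := by
    rw [HomologicalComplex.mono_homologyMap_iff_up_to_refinements _ (n - 1) n (n + 1) (by simp)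
      (by simp)]
    intro T (x : T ⟶ (FilD.grF A p).obj (K.X n)) hx (y : T ⟶ (FilD.grF A p).obj (L (n - 1))) hy
    change x ≫ (FilD.grF A p).map (π n) = y ≫ (FilD.grF A p).map (C.d (n - 1) n) at hy
    by_cases hna : n = a
    · exact (hex n hna).2 p T x
        (hy.trans (by
          rw [(isZero_gr_of_isZero (hzero (n - 1) (by omega)) p).eq_of_tgt y 0, zero_comp]))
    · haveI := hepi (n - 1) p
      haveI := hmono n (by omega) p
      obtain ⟨T', q, hq, x', hx'⟩ := surjective_up_to_refinements_of_epi
        ((FilD.grF A p).map (π (n - 1))) y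
      refine ⟨T', q, hq, x', ?_⟩
      change q ≫ x = x' ≫ (FilD.grF A p).map (K.d (n - 1) n)
      rw [← cancel_mono ((FilD.grF A p).map (π n)), Category.assoc, Category.assoc, hy,
        ← Functor.map_comp, ← hd' (n - 1) n (by omega), Functor.map_comp, ← Category.assoc x',
        ← hx', Category.assoc, hC]
  haveI : Epi (HomologicalComplex.homologyMap ((FilD.grCx p).map φ) n) := by
    rw [HomologicalComplex.epi_homologyMap_iff_up_to_refinements _ (n - 1) n (n + 1) (by simp)
      (by simp)]
    intro T (y : T ⟶ (FilD.grF A p).obj (L n)) hy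
    change y ≫ (FilD.grF A p).map (C.d n (n + 1)) = 0 at hy
    haveI := hepi n p
    haveI := hmono (n + 1) (by omega) p
    obtain ⟨T', q, hq, x, hx⟩ := surjective_up_to_refinements_of_epi ((FilD.grF A p).map (π n)) y
    refine ⟨T', q, hq, x, ?_, 0, ?_⟩
    · change x ≫ (FilD.grF A p).map (K.d n (n + 1)) = 0
      rw [← cancel_mono ((FilD.grF A p).map (π (n + 1))), zero_comp, Category.assoc,
        ← Functor.map_comp, ← hd' n (n + 1) rfl, Functor.map_comp, ← Category.assoc x, ← hx,
        Category.assoc, ← hC n (n + 1) rfl, hy, comp_zero]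
    · rw [zero_comp, add_zero]
      exact hx
  exact isIso_of_mono_of_epi _

/-- A complex with vanishing filtered cohomology above `b` receives a filtered quasi-isomorphism
from one concentrated in degrees `≤ b`. -/
theorem exists_from_boundedAbove (K : CochainComplex (FilD.FilF A) ℤ) (b : ℤ)
    (hK : ∀ (p n : ℤ), b < n → IsZero (((FilD.grCx p).obj K).homology n)) :
    ∃ (M : CochainComplex (FilD.FilF A) ℤ) (φ : M ⟶ K),
      M.IsStrictlyLE b ∧ FilD.IsFilteredQuasiIso φ := by
  classical
  have hd : StrictR (K.d b (b + 1)).hom :=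
    strictR_fst_of_gr_exact (K.d b (b + 1)) (K.d (b + 1) (b + 2)) _
      (fun p => grSC_exact_of_isZero_homology b (b + 1) (b + 2) (by omega) (by omega) p
        (hK p (b + 1) (by omega)))
  have key : ∀ n : ℤ, ∃ (M : FilD.FilF A) (ι : M ⟶ K.X n), Mono ι ∧
      (b < n → IsZero M) ∧ (∀ p, Mono ((FilD.grF A p).map ι)) ∧
      (n < b → ∀ p, Epi ((FilD.grF A p).map ι)) ∧
      (n = b → ι ≫ K.d n (n + 1) = 0 ∧ ∀ (p : ℤ) (T : A) (x : T ⟶ (FilD.grF A p).obj (K.X n)),
        x ≫ (FilD.grF A p).map (K.d n (n + 1)) = 0 → ∃ (T' : A) (q : T' ⟶ T) (_ : Epi q)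
          (y : T' ⟶ (FilD.grF A p).obj M), q ≫ x = y ≫ (FilD.grF A p).map ι) ∧
      ∀ (T : FilD.FilF A) (g : T ⟶ K.X n), (b < n → g = 0) →
        (n = b → g ≫ K.d n (n + 1) = 0) → ∃ g' : T ⟶ M, g' ≫ ι = g := by
    intro n
    rcases lt_trichotomy n b with hn | hn | hn
    · refine ⟨K.X n, 𝟙 _, inferInstance, fun h => absurd h (by omega), fun p => ?_, fun _ p => ?_,
        fun h => absurd h (by omega), fun T g _ _ => ⟨g, Category.comp_id _⟩⟩
      · rw [(FilD.grF A p).map_id]; infer_instance
      · rw [(FilD.grF A p).map_id]; infer_instance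
    · subst hn
      let M : FilD.FilF A := ⟨kernel (K.d n (n + 1)).hom, isFinFil_kernel (K.d n (n + 1))⟩
      let i : M ⟶ K.X n := ObjectProperty.homMk (kernel.ι (K.d n (n + 1)).hom)
      haveI : ∀ k, Mono (i.hom.app k) := fun k =>
        inferInstanceAs (Mono ((kernel.ι (K.d n (n + 1)).hom).app k))
      have hs : StrictR i.hom := by
        intro p q hpq T x y hxy
        have h0 : y ≫ (K.d n (n + 1)).hom.app (op q) = 0 := by
          refine res_cancel (K.X (n + 1)) hpq ?_
          rw [zero_comp, Category.assoc, ← res_naturality, ← Category.assoc, ← hxy, Category.assoc,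
            comp_app_eq_zero (kernel.condition _), comp_zero]
        obtain ⟨y', hy'⟩ := exists_kernel_lift (K.d n (n + 1)).hom (op q) y h0
        exact ⟨T, 𝟙 T, inferInstance, y', by rw [Category.id_comp]; exact hy'⟩
      refine ⟨M, i, mono_of_mono_app i, fun h => absurd h (by omega),
        fun p => mono_gr_of_strict i hs p, fun h => absurd h (by omega),
        fun _ => ⟨ObjectProperty.hom_ext _ (kernel.condition _), fun p T x hx => ?_⟩,
        fun T g _ hg => ?_⟩
      · exact ((strictR_iff_gr_kernel_exact (K.d n (n + 1))).1 hd p).exact_up_to_refinements x hx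
      · exact ⟨ObjectProperty.homMk (kernel.lift _ g.hom
          (congrArg InducedCategory.Hom.hom (hg rfl))),
            ObjectProperty.hom_ext _ (kernel.lift_ι _ _ _)⟩
    · refine ⟨0, 0, ⟨fun g h _ => (isZero_zero _).eq_of_tgt _ _⟩, fun _ => isZero_zero _,
        fun p => ⟨fun g h _ => (isZero_gr_of_isZero (isZero_zero _) p).eq_of_tgt _ _⟩,
        fun h => absurd h (by omega), fun h => absurd h (by omega),
        fun T g hg _ => ⟨0, by rw [hg hn, zero_comp]⟩⟩
  choose M ι hι hzero hmono hepi hex hlift using key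
  have hd' : ∀ m n, m + 1 = n → ∃ d : M m ⟶ M n, d ≫ ι n = ι m ≫ K.d m n := fun m n h =>
    hlift n (M m) _ (fun hn => by
      by_cases hm : b < m
      · exact (hzero m hm).eq_of_src _ _
      · subst h
        exact (hex m (by omega)).1)
      (fun _ => by rw [Category.assoc, K.d_comp_d, comp_zero])
  choose d hd' using hd'
  let C : CochainComplex (FilD.FilF A) ℤ :=
    { X := M
      d := fun m n => if h : m + 1 = n then d m n h else 0
      shape := fun m n h => dif_neg h
      d_comp_d' := fun l m n (h : l + 1 = m) (h' : m + 1 = n) => by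
        rw [dif_pos h, dif_pos h']
        haveI := hι n
        rw [← cancel_mono (ι n), Category.assoc, hd' m n h', reassoc_of% (hd' l m h),
          K.d_comp_d, comp_zero, zero_comp] }
  have hC : ∀ m n (h : m + 1 = n), C.d m n = d m n h := fun m n h => dif_pos h
  let φ : C ⟶ K :=
    { f := ι
      comm' := fun m n (h : m + 1 = n) => by rw [hC m n h, hd' m n h] }
  refine ⟨C, φ, by rw [CochainComplex.isStrictlyLE_iff]; exact hzero, fun p => ?_⟩
  rw [quasiIso_iff]
  intro n
  rw [quasiIsoAt_iff_isIso_homologyMap]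
  by_cases hn : b < n
  · exact isIso_of_isZero (isZero_grCx_homology (L := C) (hzero n hn) p) (hK p n hn) _
  haveI : Mono (HomologicalComplex.homologyMap ((FilD.grCx p).map φ) n) := by
    rw [HomologicalComplex.mono_homologyMap_iff_up_to_refinements _ (n - 1) n (n + 1) (by simp)
      (by simp)]
    intro T (x : T ⟶ (FilD.grF A p).obj (M n)) hx (y : T ⟶ (FilD.grF A p).obj (K.X (n - 1))) hy
    change x ≫ (FilD.grF A p).map (ι n) = y ≫ (FilD.grF A p).map (K.d (n - 1) n) at hy
    haveI := hepi (n - 1) (by omega) p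
    haveI := hmono n p
    obtain ⟨T', q, hq, x', hx'⟩ := surjective_up_to_refinements_of_epi
      ((FilD.grF A p).map (ι (n - 1))) y
    refine ⟨T', q, hq, x', ?_⟩
    change q ≫ x = x' ≫ (FilD.grF A p).map (C.d (n - 1) n)
    rw [← cancel_mono ((FilD.grF A p).map (ι n)), Category.assoc, Category.assoc, hy,
      ← Functor.map_comp, hC _ _ (by omega : n - 1 + 1 = n), hd', Functor.map_comp,
      ← Category.assoc x', ← hx', Category.assoc]
  haveI : Epi (HomologicalComplex.homologyMap ((FilD.grCx p).map φ) n) := by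
    rw [HomologicalComplex.epi_homologyMap_iff_up_to_refinements _ (n - 1) n (n + 1) (by simp)
      (by simp)]
    intro T (y : T ⟶ (FilD.grF A p).obj (K.X n)) hy
    change y ≫ (FilD.grF A p).map (K.d n (n + 1)) = 0 at hy
    obtain ⟨T', q, hq, x, hx⟩ : ∃ (T' : A) (q : T' ⟶ T) (_ : Epi q)
        (x : T' ⟶ (FilD.grF A p).obj (M n)), q ≫ y = x ≫ (FilD.grF A p).map (ι n) := by
      by_cases hnb : n = b
      · exact (hex n hnb).2 p T y hy
      · haveI := hepi n (by omega) p
        exact surjective_up_to_refinements_of_epi _ y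
    haveI := hmono (n + 1) p
    refine ⟨T', q, hq, x, ?_, 0, ?_⟩
    · change x ≫ (FilD.grF A p).map (C.d n (n + 1)) = 0
      rw [← cancel_mono ((FilD.grF A p).map (ι (n + 1))), zero_comp, Category.assoc,
        ← Functor.map_comp, hC n (n + 1) rfl, hd', Functor.map_comp, ← Category.assoc x, ← hx,
        Category.assoc, hy, comp_zero]
    · rw [zero_comp, add_zero]
      exact hx
  exact isIso_of_mono_of_epi _

end Groth.Agent.FilDLib
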